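import Cfsg.Agent.Lib.Helper29.UG.UFrame

/-!
# Existence of hyperbolic frames in a unitary space over a finite field
-/

set_option autoImplicit false

namespace Cfsg.Agent.Lib.Helper29.UG

open Matrix Cfsg.Agent.Lib.Helper28.UForm Cfsg.Agent.Lib.Helper28.UGen
  Cfsg.Agent.Lib.Helper28.UMax Cfsg.Agent.Lib.Helper28.UMax2

variable {n : ℕ} {F : Type*} [Field F] {σ : F ≃+* F} {f : (Fin n → F) → (Fin n → F) → F}

/-- `k` mutually orthogonal hyperbolic pairs `(e i, g i)`, together with a non-degenerate family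
`a` having the same orthogonal complement. -/
theorem exists_pairs [Finite F] (hf : Cfsg.Geo.IsUnitaryForm σ f) :
    ∀ k : ℕ, 2 * k ≤ n → ∃ (m : ℕ) (a : Fin m → (Fin n → F)) (e g : ℕ → (Fin n → F)),
      m = 2 * k ∧ Nd f a ∧
      (∀ v, Perp f a v ↔ ∀ i, i < k → f v (e i) = 0 ∧ f v (g i) = 0) ∧
      (∀ i j, i < k → j < k → f (e i) (e j) = 0) ∧
      (∀ i j, i < k → j < k → f (g i) (g j) = 0) ∧
      (∀ i j, i < k → j < k → f (e i) (g j) = if i = j then 1 else 0) := by
  intro k
  induction k with
  | zero =>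
    intro _
    refine ⟨0, e0, fun _ => 0, fun _ => 0, rfl, nd_e0, ?_, ?_, ?_, ?_⟩
    · intro v
      exact ⟨fun _ i hi => absurd hi (Nat.not_lt_zero i), fun _ => perp_e0 v⟩
    · intro i j hi; exact absurd hi (Nat.not_lt_zero i)
    · intro i j hi; exact absurd hi (Nat.not_lt_zero i)
    · intro i j hi; exact absurd hi (Nat.not_lt_zero i)
  | succ k ih =>
    intro hk
    obtain ⟨m, a, e, g, hm, ha, hperp, hee, hgg, heg⟩ := ih (by omega)
    obtain ⟨u, v, huu, hvv, hvu, hua, hva⟩ := ex_hyp hf a ha (by omega)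
    have huv : f u v = 1 := by rw [hf.herm, hvu, map_one]
    have hnd := nd_cons2 hf a ha u v hua hva huu hvv (by rw [hvu]; exact one_ne_zero)
    have hue := (hperp u).1 hua
    have hve := (hperp v).1 hva
    refine ⟨m + 1 + 1, Fin.cons u (Fin.cons v a), Function.update e k u, Function.update g k v,
      by omega, hnd, ?_, ?_, ?_, ?_⟩
    · intro x
      rw [perp_cons, perp_cons, hperp x]
      constructor
      · rintro ⟨h1, h2, h3⟩ i hi
        by_cases hik : i = k
        · subst hik
          rw [Function.update_self, Function.update_self]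
          exact ⟨h1, h2⟩
        · rw [Function.update_of_ne hik, Function.update_of_ne hik]
          exact h3 i (by omega)
      · intro h
        refine ⟨?_, ?_, fun i hi => ?_⟩
        · have := (h k (by omega)).1
          rwa [Function.update_self] at this
        · have := (h k (by omega)).2
          rwa [Function.update_self] at this
        · have := h i (by omega)
          have hik : i ≠ k := by omega
          rwa [Function.update_of_ne hik, Function.update_of_ne hik] at this
    · intro i j hi hj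
      by_cases hik : i = k
      · by_cases hjk : j = k
        · rw [hik, hjk, Function.update_self]
          exact huu
        · rw [hik, Function.update_self, Function.update_of_ne hjk]
          exact (hue j (by omega)).1
      · by_cases hjk : j = k
        · rw [hjk, Function.update_self, Function.update_of_ne hik]
          exact f_swap_zero hf (hue i (by omega)).1
        · rw [Function.update_of_ne hik, Function.update_of_ne hjk]
          exact hee i j (by omega) (by omega)
    · intro i j hi hj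
      by_cases hik : i = k
      · by_cases hjk : j = k
        · rw [hik, hjk, Function.update_self]
          exact hvv
        · rw [hik, Function.update_self, Function.update_of_ne hjk]
          exact (hve j (by omega)).2
      · by_cases hjk : j = k
        · rw [hjk, Function.update_self, Function.update_of_ne hik]
          exact f_swap_zero hf (hve i (by omega)).2
        · rw [Function.update_of_ne hik, Function.update_of_ne hjk]
          exact hgg i j (by omega) (by omega)
    · intro i j hi hj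
      by_cases hik : i = k
      · by_cases hjk : j = k
        · rw [hik, hjk, Function.update_self, Function.update_self, if_pos rfl]
          exact huv
        · rw [hik, Function.update_self, Function.update_of_ne hjk, if_neg (Ne.symm hjk)]
          exact (hue j (by omega)).2
      · by_cases hjk : j = k
        · rw [hjk, Function.update_self, Function.update_of_ne hik, if_neg hik]
          exact f_swap_zero hf (hve i (by omega)).1
        · rw [Function.update_of_ne hik, Function.update_of_ne hjk]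
          exact heg i j (by omega) (by omega)

/-- the frame built from `k` hyperbolic pairs. -/
def cOf (k : ℕ) (e g : ℕ → (Fin n → F)) : ℕ → Fin n → F :=
  fun a => if a < k then e a else g (a - k)

theorem uframe_of_pairs (hf : Cfsg.Geo.IsUnitaryForm σ f) {k : ℕ} {e g : ℕ → (Fin n → F)}
    (hee : ∀ i j, i < k → j < k → f (e i) (e j) = 0)
    (hgg : ∀ i j, i < k → j < k → f (g i) (g j) = 0)
    (heg : ∀ i j, i < k → j < k → f (e i) (g j) = if i = j then 1 else 0) :
    UFrame f k (cOf k e g) := by
  have hge : ∀ i j, i < k → j < k → f (g i) (e j) = if i = j then 1 else 0 := by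
    intro i j hi hj
    rw [hf.herm, heg j i hj hi]
    by_cases hij : i = j
    · rw [if_pos hij, if_pos hij.symm, map_one]
    · rw [if_neg hij, if_neg (Ne.symm hij), map_zero]
  refine ⟨fun a ha => ?_, fun a ha => ?_, fun a b ha hb hab h1 h2 => ?_⟩
  · unfold cOf
    by_cases h : a < k
    · rw [if_pos h]; exact hee a a h h
    · rw [if_neg h]; exact hgg _ _ (by omega) (by omega)
  · unfold cOf
    rw [if_pos ha, if_neg (by omega), Nat.add_sub_cancel, heg a a ha ha, if_pos rfl]
  · unfold cOf
    by_cases ha' : a < k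
    · by_cases hb' : b < k
      · rw [if_pos ha', if_pos hb']; exact hee a b ha' hb'
      · rw [if_pos ha', if_neg hb', heg a (b - k) ha' (by omega), if_neg (by omega)]
    · by_cases hb' : b < k
      · rw [if_neg ha', if_pos hb', hge (a - k) b (by omega) hb', if_neg (by omega)]
      · rw [if_neg ha', if_neg hb']; exact hgg _ _ (by omega) (by omega)

theorem Wp_iff_perp {k m : ℕ} {a : Fin m → (Fin n → F)} {e g : ℕ → (Fin n → F)}
    (hperp : ∀ v, Perp f a v ↔ ∀ i, i < k → f v (e i) = 0 ∧ f v (g i) = 0) (w : Fin n → F) :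
    w ∈ Wp f k (cOf k e g) ↔ Perp f a w := by
  rw [hperp]
  constructor
  · intro h i hi
    constructor
    · have := h i (by omega)
      unfold cOf at this
      rwa [if_pos hi] at this
    · have := h (i + k) (by omega)
      unfold cOf at this
      rwa [if_neg (by omega), Nat.add_sub_cancel] at this
  · intro h a ha
    unfold cOf
    by_cases h' : a < k
    · rw [if_pos h']; exact (h a h').1
    · rw [if_neg h']; exact (h (a - k) (by omega)).2

/-- frame with no complement (`n = 2k`). -/
theorem exists_frame0 [Finite F] (hf : Cfsg.Geo.IsUnitaryForm σ f) (k : ℕ) (hn : n = 2 * k) :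
    ∃ c : ℕ → Fin n → F, UFrame f k c ∧ ∀ w ∈ Wp f k c, w = 0 := by
  obtain ⟨m, a, e, g, hm, ha, hperp, hee, hgg, heg⟩ := exists_pairs hf k (by omega)
  refine ⟨cOf k e g, uframe_of_pairs hf hee hgg heg, fun w hw => ?_⟩
  exact perp_full a ha (by omega) w ((Wp_iff_perp hperp w).1 hw)

/-- a unit vector orthogonal to a non-degenerate family. -/
theorem exists_unit_perp [Finite F] (hf : Cfsg.Geo.IsUnitaryForm σ f) {m : ℕ}
    (a : Fin m → (Fin n → F)) (ha : Nd f a) (hm : m < n) :
    ∃ w, Perp f a w ∧ f w w = 1 := by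
  obtain ⟨s, hsa, hs⟩ := exists_noniso_perp hf a ha hm
  have hfix : σ (1 / f s s) = 1 / f s s := by
    rw [map_div₀, map_one, f_self_fixed hf]
  obtain ⟨c, hc⟩ := norm_surj hf _ hfix
  refine ⟨c • s, perp_smul hf a c s hsa, ?_⟩
  rw [hf.smul_left, f_smul_right hf, ← mul_assoc, hc]
  field_simp

/-- frame with a one-dimensional complement (`n = 2k + 1`). -/
theorem exists_frame1 [Finite F] (hf : Cfsg.Geo.IsUnitaryForm σ f) (k : ℕ) (hn : n = 2 * k + 1) :
    ∃ (c : ℕ → Fin n → F) (w₀ : Fin n → F), UFrame f k c ∧ w₀ ∈ Wp f k c ∧ f w₀ w₀ = 1 ∧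
      ∀ w ∈ Wp f k c, w = f w w₀ • w₀ := by
  obtain ⟨m, a, e, g, hm, ha, hperp, hee, hgg, heg⟩ := exists_pairs hf k (by omega)
  obtain ⟨w₀, hw₀a, hw₀⟩ := exists_unit_perp hf a ha (by omega)
  have hnd := nd_cons1 hf a ha w₀ hw₀a (by rw [hw₀]; exact one_ne_zero)
  refine ⟨cOf k e g, w₀, uframe_of_pairs hf hee hgg heg, (Wp_iff_perp hperp w₀).2 hw₀a, hw₀,
    fun w hw => ?_⟩
  have hwa := (Wp_iff_perp hperp w).1 hw
  have h0 : w - f w w₀ • w₀ = 0 := by
    apply perp_full _ hnd (by omega)
    rw [perp_cons]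
    refine ⟨?_, perp_sub hf a _ _ hwa (perp_smul hf a _ _ hw₀a)⟩
    rw [f_sub_left hf, hf.smul_left, hw₀, mul_one, sub_self]
  exact sub_eq_zero.1 h0

/-- frame with a two-dimensional complement (`n = 2k + 2`). -/
theorem exists_frame2 [Finite F] (hf : Cfsg.Geo.IsUnitaryForm σ f) (k : ℕ) (hn : n = 2 * k + 2) :
    ∃ (c : ℕ → Fin n → F) (w₀ w₁ : Fin n → F), UFrame f k c ∧ w₀ ∈ Wp f k c ∧ w₁ ∈ Wp f k c ∧
      f w₀ w₀ = 1 ∧ f w₁ w₁ = 1 ∧ f w₁ w₀ = 0 ∧
      ∀ w ∈ Wp f k c, w = f w w₀ • w₀ + f w w₁ • w₁ := by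
  obtain ⟨m, a, e, g, hm, ha, hperp, hee, hgg, heg⟩ := exists_pairs hf k (by omega)
  obtain ⟨w₀, hw₀a, hw₀⟩ := exists_unit_perp hf a ha (by omega)
  have hnd := nd_cons1 hf a ha w₀ hw₀a (by rw [hw₀]; exact one_ne_zero)
  obtain ⟨w₁, hw₁a', hw₁⟩ := exists_unit_perp hf _ hnd (by omega)
  rw [perp_cons] at hw₁a'
  obtain ⟨hw₁₀, hw₁a⟩ := hw₁a'
  have hw₀₁ : f w₀ w₁ = 0 := f_swap_zero hf hw₁₀
  have hnd2 := nd_cons1 hf _ hnd w₁ (by rw [perp_cons]; exact ⟨hw₁₀, hw₁a⟩)
    (by rw [hw₁]; exact one_ne_zero)
  refine ⟨cOf k e g, w₀, w₁, uframe_of_pairs hf hee hgg heg, (Wp_iff_perp hperp w₀).2 hw₀a,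
    (Wp_iff_perp hperp w₁).2 hw₁a, hw₀, hw₁, hw₁₀, fun w hw => ?_⟩
  have hwa := (Wp_iff_perp hperp w).1 hw
  have h0 : w - (f w w₀ • w₀ + f w w₁ • w₁) = 0 := by
    apply perp_full _ hnd2 (by omega)
    rw [perp_cons, perp_cons]
    refine ⟨?_, ?_, perp_sub hf a _ _ hwa (perp_add hf a _ _ (perp_smul hf a _ _ hw₀a)
      (perp_smul hf a _ _ hw₁a))⟩
    · rw [f_sub_left hf, hf.add_left, hf.smul_left, hf.smul_left, hw₀₁, hw₁]
      ring
    · rw [f_sub_left hf, hf.add_left, hf.smul_left, hf.smul_left, hw₀, hw₁₀]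
      ring
  exact sub_eq_zero.1 h0

end Cfsg.Agent.Lib.Helper29.UG
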