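import Cfsg.Agent.Lib.Helper29.UG.UWact

/-!
# The torus of `SU_3` (one hyperbolic pair and a unit vector)
-/

set_option autoImplicit false

namespace Cfsg.Agent.Lib.Helper29.UG

open Matrix Cfsg.Agent.Lib.Helper28.UForm Cfsg.Agent.Lib.Helper28.UGen
  Cfsg.Agent.Lib.Helper28.UMax Cfsg.Agent.Lib.Helper28.UMax2

variable {n : ℕ} {F : Type*} [Field F] {σ : F ≃+* F} {f : (Fin n → F) → (Fin n → F) → F}

/-- determinant of a matrix with an eigenbasis. -/
theorem det_diag_mat {k : ℕ} (b : Fin k → (Fin n → F)) (hli : LinearIndependent F b) (hk : k = n)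
    (A : Matrix (Fin n) (Fin n) F) (μ : Fin k → F) (h : ∀ j, A *ᵥ b j = μ j • b j) :
    A.det = ∏ j, μ j := by
  have hcard : Fintype.card (Fin k) = Module.finrank F (Fin n → F) := by
    rw [Fintype.card_fin, Module.finrank_fin_fun, hk]
  have hspan : Submodule.span F (Set.range b) = ⊤ :=
    hli.span_eq_top_of_card_eq_finrank' hcard
  let B := Module.Basis.mk hli (by rw [hspan])
  have hB : ∀ j, B j = b j := fun j => by
    simp [B]
  have h1 : LinearMap.toMatrix B B (Matrix.toLin' A) = Matrix.diagonal μ := by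
    ext i j
    rw [LinearMap.toMatrix_apply, Matrix.toLin'_apply, hB, h j, map_smul, ← hB, B.repr_self,
      Finsupp.smul_apply, Finsupp.single_apply, Matrix.diagonal_apply]
    by_cases hij : i = j
    · simp [hij]
    · have : ¬ j = i := fun h => hij h.symm
      simp [hij, this]
  rw [← LinearMap.det_toLin', ← LinearMap.det_toMatrix B, h1, Matrix.det_diagonal]

variable {c : ℕ → Fin n → F}

/-- decomposition along one hyperbolic pair and a unit vector spanning the complement. -/
theorem decomp3 (hf : Cfsg.Geo.IsUnitaryForm σ f) (fr : UFrame f 1 c) {w₀ : Fin n → F}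
    (hw₀ : w₀ ∈ Wp f 1 c) (hW : ∀ w ∈ Wp f 1 c, w = f w w₀ • w₀) (x : Fin n → F) :
    x = f x (c 1) • c 0 + f x (c 0) • c 1 + f x w₀ • w₀ := by
  have h1 := fr.sub_mem_Wp hf x
  have hfp : fpart f 1 c x = f x (c 1) • c 0 + f x (c 0) • c 1 := by
    unfold fpart
    rw [show 2 * 1 = 2 from rfl, Finset.sum_range_succ, Finset.sum_range_succ, Finset.sum_range_zero,
      zero_add]
    have e0 : pr 1 0 = 1 := by unfold pr; rw [if_pos (by omega)]
    have e1 : pr 1 1 = 0 := by unfold pr; rw [if_neg (by omega)]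
    rw [e0, e1]
  have h2 := hW _ h1
  have h3 : f (x - fpart f 1 c x) w₀ = f x w₀ := by
    rw [f_sub_left hf, hfp, hf.add_left, hf.smul_left, hf.smul_left,
      Wp_right hf hw₀ (by omega : 0 < 2 * 1), Wp_right hf hw₀ (by omega : 1 < 2 * 1)]
    ring
  rw [h3, hfp] at h2
  have : x = (f x (c 1) • c 0 + f x (c 0) • c 1) + (x - (f x (c 1) • c 0 + f x (c 0) • c 1)) := by
    abel
  rw [h2] at this
  exact this

/-- the torus element `diag(λ, σ(λ)⁻¹; σ(λ)/λ)` of `SU_3`. -/
theorem torus3 (hf : Cfsg.Geo.IsUnitaryForm σ f) (hn : n = 3)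
    {G : Subgroup (Matrix.GeneralLinearGroup (Fin n) F)} (hG : IsSUGroup f G)
    (fr : UFrame f 1 c) {w₀ : Fin n → F} (hw₀ : w₀ ∈ Wp f 1 c) (hw₀1 : f w₀ w₀ = 1)
    (hW : ∀ w ∈ Wp f 1 c, w = f w w₀ • w₀) (lam : F) (hlam : lam ≠ 0) :
    ∃ h ∈ G, (h : Matrix (Fin n) (Fin n) F) *ᵥ c 0 = lam • c 0 ∧
      (h : Matrix (Fin n) (Fin n) F) *ᵥ c 1 = (σ lam)⁻¹ • c 1 ∧
      ∀ w ∈ Wp f 1 c, (h : Matrix (Fin n) (Fin n) F) *ᵥ w = (σ lam / lam) • w := by
  classical
  have hσlam : σ lam ≠ 0 := fun h => hlam ((map_eq_zero σ).1 h)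
  have h00 : f (c 0) (c 0) = 0 := fr.iso 0 (by omega)
  have h11 : f (c 1) (c 1) = 0 := fr.iso 1 (by omega)
  have h01 : f (c 0) (c 1) = 1 := by
    have := fr.pair 0 (by omega)
    rwa [zero_add] at this
  have h10 : f (c 1) (c 0) = 1 := by rw [hf.herm, h01, map_one]
  have hw0 : f w₀ (c 0) = 0 := hw₀ 0 (by omega)
  have hw1 : f w₀ (c 1) = 0 := hw₀ 1 (by omega)
  have h0w : f (c 0) w₀ = 0 := f_swap_zero hf hw0
  have h1w : f (c 1) w₀ = 0 := f_swap_zero hf hw1
  let L : (Fin n → F) →ₗ[F] (Fin n → F) :=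
    { toFun := fun x => f x (c 1) • (lam • c 0) + f x (c 0) • ((σ lam)⁻¹ • c 1)
        + f x w₀ • ((σ lam / lam) • w₀)
      map_add' := by
        intro x y
        simp only [hf.add_left]
        module
      map_smul' := by
        intro a x
        simp only [hf.smul_left, RingHom.id_apply]
        module }
  have hL : ∀ x, L x = f x (c 1) • (lam • c 0) + f x (c 0) • ((σ lam)⁻¹ • c 1)
        + f x w₀ • ((σ lam / lam) • w₀) := fun x => rfl
  obtain ⟨A, hAdef⟩ : ∃ A, A = LinearMap.toMatrix' L := ⟨_, rfl⟩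
  have hA : ∀ x, A *ᵥ x = L x := by
    intro x
    rw [hAdef, LinearMap.toMatrix'_mulVec]
  have hA0 : A *ᵥ c 0 = lam • c 0 := by
    rw [hA, hL, h01, h00, h0w]
    module
  have hA1 : A *ᵥ c 1 = (σ lam)⁻¹ • c 1 := by
    rw [hA, hL, h11, h10, h1w]
    module
  have hAw : A *ᵥ w₀ = (σ lam / lam) • w₀ := by
    rw [hA, hL, hw1, hw0, hw₀1]
    module
  -- linear independence
  have hli : LinearIndependent F (![c 0, c 1, w₀] : Fin 3 → (Fin n → F)) := by
    rw [Fintype.linearIndependent_iff]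
    intro g hg
    rw [Fin.sum_univ_three] at hg
    simp only [Matrix.cons_val_zero, Matrix.cons_val_one, Matrix.cons_val_two,
      Matrix.head_cons, Matrix.tail_cons] at hg
    have e0 : g 0 = 0 := by
      have := congrArg (fun v => f v (c 1)) hg
      simp only [hf.add_left, hf.smul_left, h01, h11, hw1, f_zero_left hf] at this
      linear_combination this
    have e1 : g 1 = 0 := by
      have := congrArg (fun v => f v (c 0)) hg
      simp only [hf.add_left, hf.smul_left, h00, h10, hw0, f_zero_left hf] at this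
      linear_combination this
    have e2 : g 2 = 0 := by
      have := congrArg (fun v => f v w₀) hg
      simp only [hf.add_left, hf.smul_left, h0w, h1w, hw₀1, f_zero_left hf] at this
      linear_combination this
    intro i
    fin_cases i
    · exact e0
    · exact e1
    · exact e2
  have hdet : A.det = 1 := by
    rw [det_diag_mat (![c 0, c 1, w₀] : Fin 3 → (Fin n → F)) hli hn.symm A
      (![lam, (σ lam)⁻¹, σ lam / lam] : Fin 3 → F) (by
        intro j
        fin_cases j
        · exact hA0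
        · exact hA1
        · exact hAw), Fin.prod_univ_three]
    simp only [Matrix.cons_val_zero, Matrix.cons_val_one, Matrix.cons_val_two,
      Matrix.head_cons, Matrix.tail_cons]
    field_simp
  -- isometry
  have hiso : ∀ x y, f (A *ᵥ x) (A *ᵥ y) = f x y := by
    intro x y
    have hx := decomp3 hf fr hw₀ hW x
    have hy := decomp3 hf fr hw₀ hW y
    rw [hA, hA, hL, hL]
    conv_rhs => rw [hx, hy]
    simp only [hf.add_left, hf.smul_left, f_add_right hf, f_smul_right hf, h00, h11, h01, h10,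
      hw0, hw1, h0w, h1w, hw₀1, map_mul, map_inv₀, map_div₀, hf.involutive, mul_zero, mul_one,
      add_zero, zero_add]
    field_simp
  obtain ⟨h, hhdef⟩ : ∃ h, h = Matrix.GeneralLinearGroup.mkOfDetNeZero A (by
    rw [hdet]; exact one_ne_zero) := ⟨_, rfl⟩
  have hval : (h : Matrix (Fin n) (Fin n) F) = A := by rw [hhdef]; rfl
  refine ⟨h, (hG h).2 ⟨?_, ?_⟩, ?_, ?_, ?_⟩
  · intro x y
    rw [hval]
    exact hiso x y
  · unfold Cfsg.Geo.specialLinear
    rw [MonoidHom.mem_ker]
    apply Units.ext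
    rw [Matrix.GeneralLinearGroup.val_det_apply, hval, hdet, Units.val_one]
  · rw [hval]; exact hA0
  · rw [hval]; exact hA1
  · intro w hw
    rw [hval, hW w hw, Matrix.mulVec_smul, hAw]
    rw [smul_smul, smul_smul, mul_comm]

end Cfsg.Agent.Lib.Helper29.UG
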