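import Cfsg.Agent.Lib.Helper29.UG.UCore3
import Cfsg.Agent.Lib.Helper29.UG.UFrameEx
import Cfsg.Agent.Lib.Helper29.UG.UTorus3
import Cfsg.Agent.Lib.Helper28.UHerm

/-!
# `SU_n(q)` is generated by two elements (abstract unitary form on `F^n`, `|F| = q²`)
-/

set_option autoImplicit false

namespace Cfsg.Agent.Lib.Helper29.UG

open Matrix Cfsg.Agent.Lib.Helper28.UForm Cfsg.Agent.Lib.Helper28.UGen
  Cfsg.Agent.Lib.Helper28.UMax Cfsg.Agent.Lib.Helper28.UMax2 Cfsg.Agent.Lib.Helper28.UPair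

variable {n : ℕ} {F : Type*} [Field F] {σ : F ≃+* F} {f : (Fin n → F) → (Fin n → F) → F}

/-- a primitive element of a finite field. -/
theorem exists_primitive [Fintype F] : ∃ κ : F, κ ≠ 0 ∧ (∀ k : F, k ≠ 0 → ∃ j : ℕ, κ ^ j = k) ∧
    ∀ j : ℕ, κ ^ j = 1 → (Fintype.card F - 1) ∣ j := by
  classical
  obtain ⟨g, hg⟩ := IsCyclic.exists_generator (α := Fˣ)
  have hord : orderOf g = Fintype.card F - 1 := by
    rw [orderOf_eq_card_of_forall_mem_zpowers hg, Nat.card_eq_fintype_card, Fintype.card_units]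
  refine ⟨(g : F), g.ne_zero, fun k hk => ?_, fun j hj => ?_⟩
  · have h1 := hg (Units.mk0 k hk)
    rw [← mem_powers_iff_mem_zpowers] at h1
    obtain ⟨j, hj⟩ := (Submonoid.mem_powers_iff _ _).1 h1
    refine ⟨j, ?_⟩
    have := congrArg (fun u : Fˣ => (u : F)) hj
    simpa using this
  · rw [← hord]
    apply orderOf_dvd_of_pow_eq_one
    apply Units.ext
    rw [Units.val_pow_eq_pow_val, Units.val_one, hj]

/-- two distinct non-zero skew elements when `q ≥ 3`. -/
theorem two_skew_gen [Fintype F] {q : ℕ} (hF : Fintype.card F = q ^ 2)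
    (hq : 3 ≤ q) (hσ : ∀ x, σ x = x ^ q)
    (hf : Cfsg.Geo.IsUnitaryForm σ f) : Cfsg.Agent.Lib.Helper28.UGen2.TwoSkew σ := by
  classical
  obtain ⟨κ, hκ0, hκ⟩ := exists_K0 hf
  obtain ⟨g, hg⟩ := IsCyclic.exists_generator (α := Fˣ)
  have hord : orderOf g = q ^ 2 - 1 := by
    rw [orderOf_eq_card_of_forall_mem_zpowers hg, Nat.card_eq_fintype_card, Fintype.card_units,
      hF]
  have hne : (g : F) * σ (g : F) ≠ 1 := by
    intro h1
    have h2 : g ^ (q + 1) = 1 := by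
      apply Units.ext
      rw [Units.val_pow_eq_pow_val, Units.val_one, pow_succ', ← hσ]
      exact h1
    have h3 := orderOf_dvd_of_pow_eq_one h2
    rw [hord] at h3
    have h4 := Nat.le_of_dvd (by omega) h3
    have h5 : 3 * q ≤ q ^ 2 := by nlinarith
    omega
  have hg0 : (g : F) ≠ 0 := g.ne_zero
  have hσg0 : σ (g : F) ≠ 0 := by
    intro h
    apply hg0
    have := congrArg σ h
    rwa [hf.involutive, map_zero] at this
  refine ⟨κ, (g : F) * σ (g : F) * κ, hκ0, mul_ne_zero (mul_ne_zero hg0 hσg0) hκ0, hκ, ?_, ?_⟩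
  · rw [map_mul, map_mul, hf.involutive, hκ]
    ring
  · intro h
    have h1 : ((g : F) * σ (g : F) - 1) * κ = 0 := by linear_combination -h
    rcases mul_eq_zero.1 h1 with h2 | h2
    · exact hne (sub_eq_zero.1 h2)
    · exact hκ0 h2

variable {m : ℕ} {c : ℕ → Fin n → F}

/-- the torus element acting on the pairs `0` and `m - 1`. -/
theorem torus_pairs (hf : Cfsg.Geo.IsUnitaryForm σ f)
    {G : Subgroup (Matrix.GeneralLinearGroup (Fin n) F)} (hG : IsSUGroup f G)
    (fr : UFrame f m c) (hm : 2 ≤ m) (κ : F) (hκ : κ ≠ 0) :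
    ∃ h ∈ G, (h : Matrix (Fin n) (Fin n) F) *ᵥ c 0 = σ κ • c 0 ∧
      (h : Matrix (Fin n) (Fin n) F) *ᵥ c (2 * m - 1) = κ • c (2 * m - 1) ∧
      (∀ a, a < 2 * m → ∃ μ : F, (h : Matrix (Fin n) (Fin n) F) *ᵥ c a = μ • c a) ∧
      ∀ w ∈ Wp f m c, (h : Matrix (Fin n) (Fin n) F) *ᵥ w = w := by
  have e1 : f (c 0) (c m) = 1 := by
    have := fr.pair 0 (by omega)
    rwa [zero_add] at this
  have e2 : f (c (2 * m - 1)) (c (m - 1)) = 1 := by
    have := fr.pair' hf (show m - 1 < m by omega)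
    have e : m - 1 + m = 2 * m - 1 := by omega
    rwa [e] at this
  have hD : HQuad f (c 0) (c m) (c (2 * m - 1)) (c (m - 1)) :=
    { pp := fr.iso _ (by omega)
      p'p' := fr.iso _ (by omega)
      rr := fr.iso _ (by omega)
      r'r' := fr.iso _ (by omega)
      pp' := e1
      rr' := e2
      pr := fr.zero_of_ne hf (by omega) (by omega) (by unfold pr; split_ifs <;> omega)
      pr' := fr.zero_of_ne hf (by omega) (by omega) (by unfold pr; split_ifs <;> omega)
      p'r := fr.zero_of_ne hf (by omega) (by omega) (by unfold pr; split_ifs <;> omega)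
      p'r' := fr.zero_of_ne hf (by omega) (by omega) (by unfold pr; split_ifs <;> omega) }
  obtain ⟨h, hhG, hh0, hh1, hh2, hh3, hh4⟩ := H_exists hf hG hD κ hκ
  refine ⟨h, hhG, hh0, hh1, fun a ha => ?_, fun w hw => ?_⟩
  · by_cases a0 : a = 0
    · subst a0; exact ⟨_, hh0⟩
    by_cases a1 : a = 2 * m - 1
    · subst a1; exact ⟨_, hh1⟩
    by_cases a2 : a = m
    · subst a2; exact ⟨_, hh2⟩
    by_cases a3 : a = m - 1
    · subst a3; exact ⟨_, hh3⟩
    · refine ⟨1, ?_⟩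
      rw [one_smul]
      exact hh4 (c a)
        (fr.zero_of_ne hf ha (by omega) (by unfold pr; split_ifs <;> omega))
        (fr.zero_of_ne hf ha (by omega) (by unfold pr; split_ifs <;> omega))
        (fr.zero_of_ne hf ha (by omega) (by unfold pr; split_ifs <;> omega))
        (fr.zero_of_ne hf ha (by omega) (by unfold pr; split_ifs <;> omega))
  · exact hh4 w (hw _ (by omega)) (hw _ (by omega)) (hw _ (by omega)) (hw _ (by omega))

/-- **`SU_n(q)` is generated by two elements.** -/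
theorem su_two_gen [Fintype F] {q : ℕ} (hF : Fintype.card F = q ^ 2) (hσ : ∀ x, σ x = x ^ q)
    (hf : Cfsg.Geo.IsUnitaryForm σ f) (hn : 3 ≤ n) (h32 : ¬ (n = 3 ∧ q = 2))
    {G : Subgroup (Matrix.GeneralLinearGroup (Fin n) F)} (hG : IsSUGroup f G) :
    ∃ a ∈ G, ∃ b ∈ G, Subgroup.closure ({a, b} : Set (Matrix.GeneralLinearGroup (Fin n) F)) = G := by
  classical
  have hq2 := Cfsg.Agent.Lib.Helper28.UHerm.two_le_q hF
  have h4 : 4 ≤ n ∨ Cfsg.Agent.Lib.Helper28.UGen2.TwoSkew σ := by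
    by_cases h : 4 ≤ n
    · exact Or.inl h
    · right
      have hn3 : n = 3 := by omega
      have hq : 3 ≤ q := by
        by_contra hcon
        exact h32 ⟨hn3, by omega⟩
      exact two_skew_gen hF hq hσ hf
  have hgen := fun g hiso hSL => Cfsg.Agent.Lib.Helper28.UGen2.gen' hf hn h4 g hiso hSL
  obtain ⟨κ, hκ0, hκpow, hκord⟩ := exists_primitive (F := F)
  rw [hF] at hκord
  have hσκ : σ κ = κ ^ q := hσ κ
  have hσκ0 : σ κ ≠ 0 := fun h => hκ0 ((map_eq_zero σ).1 h)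
  have hN : q ^ 2 - 1 + 1 = q ^ 2 := Nat.sub_add_cancel (by nlinarith)
  have hqq : 2 * q ≤ q ^ 2 := by nlinarith
  have hκ1 : κ ≠ 1 := by
    intro h1
    have := hκord 1 (by rw [h1, pow_one])
    have := Nat.le_of_dvd (by omega) this
    omega
  have hσκ1 : σ κ ≠ 1 := by
    intro h1
    apply hκ1
    have := congrArg σ h1
    rwa [hf.involutive, map_one] at this
  have hone : (1 : Matrix.GeneralLinearGroup (Fin n) F) ∈ G := G.one_mem
  by_cases hn3 : n = 3
  · -- `SU_3(q)`, `q ≥ 3`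
    have hq : 3 ≤ q := by
      by_contra hcon
      exact h32 ⟨hn3, by omega⟩
    have hq3 : 3 * q ≤ q ^ 2 := by nlinarith
    obtain ⟨c, w₀, fr, hw₀, hw₀1, hWs⟩ := exists_frame1 hf 1 (by omega)
    obtain ⟨nn, hnG, hnn⟩ := cox_exists hf hG fr (le_refl 1)
    obtain ⟨h, hhG, hh0, hh1, hhW⟩ := torus3 hf hn3 hG fr hw₀ hw₀1 hWs κ hκ0
    have hdiag : ∀ a, a < 2 * 1 → ∃ μ : F, (h : Matrix (Fin n) (Fin n) F) *ᵥ c a = μ • c a := by
      intro a ha
      have : a = 0 ∨ a = 1 := by omega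
      rcases this with rfl | rfl
      · exact ⟨_, hh0⟩
      · exact ⟨_, hh1⟩
    -- `ρ = κ ^ (2q - 1)`
    have hρκ : σ κ * (σ κ / κ) * κ = κ ^ (2 * q) := by
      rw [hσκ]
      field_simp
      ring
    have hρpow : ∀ j : ℕ, (σ κ * (σ κ / κ)) ^ j = 1 → (q ^ 2 - 1) ∣ 3 * j := by
      intro j hj
      have h1 : (σ κ * (σ κ / κ) * κ) ^ j = κ ^ j := by rw [mul_pow, hj, one_mul]
      rw [hρκ, ← pow_mul] at h1
      have h2 : κ ^ ((2 * q - 1) * j) = 1 := by
        have e : 2 * q * j = j + (2 * q - 1) * j := by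
          have : 2 * q = 1 + (2 * q - 1) := by omega
          conv_lhs => rw [this]
          ring
        rw [e, pow_add] at h1
        have h3 : κ ^ j * κ ^ ((2 * q - 1) * j) = κ ^ j * 1 := by rw [h1, mul_one]
        exact mul_left_cancel₀ (pow_ne_zero j hκ0) h3
      have h3 := hκord _ h2
      have h4 : (q ^ 2 - 1) ∣ (2 * q + 1) * ((2 * q - 1) * j) := Dvd.dvd.mul_left h3 _
      have e : (2 * q + 1) * ((2 * q - 1) * j) = 4 * (q ^ 2 - 1) * j + 3 * j := by
        obtain ⟨r, rfl⟩ : ∃ r, q = r + 1 := ⟨q - 1, by omega⟩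
        have e1 : (r + 1) ^ 2 - 1 = r * r + 2 * r := by
          have : (r + 1) ^ 2 = r * r + 2 * r + 1 := by ring
          rw [this, Nat.add_sub_cancel]
        have e2 : 2 * (r + 1) - 1 = 2 * r + 1 := by omega
        rw [e1, e2]
        ring
      rw [e] at h4
      exact (Nat.dvd_add_right (Dvd.dvd.mul_right (Dvd.dvd.mul_left (dvd_refl _) 4) j)).1 h4
    have hρ0 : σ κ * (σ κ / κ) ≠ 0 := mul_ne_zero hσκ0 (div_ne_zero hσκ0 hκ0)
    have hfgen : FGen (σ κ * (σ κ / κ)) := by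
      apply fgen_of_order hF hρ0
      have hpos : 0 < orderOf (σ κ * (σ κ / κ)) := by
        apply orderOf_pos_iff.2
        rw [isOfFinOrder_iff_pow_eq_one]
        refine ⟨q ^ 2 - 1, by omega, ?_⟩
        rw [← hF]
        exact FiniteField.pow_card_sub_one_eq_one _ hρ0
      have h1 := hρpow _ (pow_orderOf_eq_one _)
      have h2 := Nat.le_of_dvd (by omega) h1
      omega
    have hρ1 : σ κ * (σ κ / κ) - 1 ≠ 0 := by
      intro h1
      have h2 := hρpow 1 (by rw [pow_one]; linear_combination h1)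
      have := Nat.le_of_dvd (by omega) h2
      omega
    have hρ'1 : 1 - σ ((σ κ)⁻¹) * (σ κ / κ) ≠ 0 := by
      rw [map_inv₀, hf.involutive]
      intro h1
      have h2 : σ κ = κ ^ 2 := by
        field_simp at h1
        linear_combination -h1
      rw [hσκ] at h2
      have h3 : κ ^ (q - 2) = 1 := by
        have : κ ^ (q - 2) * κ ^ 2 = 1 * κ ^ 2 := by
          rw [← pow_add, Nat.sub_add_cancel (by omega), h2, one_mul]
        exact mul_right_cancel₀ (pow_ne_zero 2 hκ0) this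
      have := Nat.le_of_dvd (by omega) (hκord _ h3)
      omega
    have h21 : 2 * 1 - 1 = 1 := rfl
    exact core1 hf hG hgen fr (le_refl 1) hw₀ hw₀1 hone
      (fun a _ => by rw [Units.val_one, Matrix.one_mulVec]) (one_pow _)
      (fun w hw => ⟨f w w₀, 0, by
        rw [zero_smul, add_zero]
        exact hWs w hw⟩) hnG hnn hhG hdiag hh0 (by rw [h21]; exact hh1) hhW
      (Commute.one_right h) hfgen (mul_ne_zero hρ1 hρ'1)
  by_cases hn4 : n = 4
  · obtain ⟨c, fr, hW⟩ := exists_frame0 hf 2 (by omega)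
    exact core3 hF hq2 hσ hf hG hgen fr hW
  -- `n ≥ 5`
  have hfgenκ : FGen (σ (σ κ) * 1) := by
    rw [hf.involutive, mul_one]
    exact fgen_of_powers hκpow
  have hk₁ : (σ (σ κ) * 1 - 1) * (1 - σ κ * 1) ≠ 0 := by
    rw [hf.involutive, mul_one, mul_one]
    apply mul_ne_zero
    · intro h1; apply hκ1; linear_combination h1
    · intro h1; apply hσκ1; linear_combination -h1
  rcases Nat.even_or_odd n with he | ho
  · -- `n = 2M + 2`
    obtain ⟨k, hk⟩ := he
    obtain ⟨M, hM⟩ : ∃ M, k = M + 1 := ⟨k - 1, by omega⟩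
    have hM2 : 2 ≤ M := by omega
    obtain ⟨c, w₀, w₁, fr, hw₀, hw₁, hw₀1, hw₁1, hw₁₀, hWs⟩ := exists_frame2 hf M (by omega)
    have hw₀₁ : f w₀ w₁ = 0 := f_swap_zero hf hw₁₀
    obtain ⟨nn, hnG, hnn⟩ := cox_exists hf hG fr (by omega : 1 ≤ M)
    obtain ⟨h, hhG, hh0, hh1, hdiag, hhW⟩ := torus_pairs hf hG fr hM2 κ hκ0
    -- the transvection in the complement
    obtain ⟨ξ, hξ⟩ := norm_surj hf (-1) (by rw [map_neg, map_one])
    have hξ0 : ξ ≠ 0 := by
      intro h0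
      rw [h0, zero_mul] at hξ
      exact one_ne_zero (neg_eq_zero.1 hξ.symm)
    obtain ⟨y, hydef⟩ : ∃ y, y = w₀ + ξ • w₁ := ⟨_, rfl⟩
    have hyW : y ∈ Wp f M c := by
      rw [hydef]
      exact Wp_add hf hw₀ (Wp_smul hf ξ hw₁)
    have hyy : f y y = 0 := by
      rw [hydef]
      simp only [hf.add_left, f_add_right hf, hf.smul_left, f_smul_right hf, hw₀1, hw₁1, hw₁₀,
        hw₀₁, mul_zero, add_zero, zero_add, mul_one]
      linear_combination hξ
    have hw₀y : f w₀ y = 1 := by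
      rw [hydef, f_add_right hf, f_smul_right hf, hw₀1, hw₀₁, mul_zero, add_zero]
    obtain ⟨c₀, hc₀0, hc₀⟩ := exists_K0 hf
    have hσc₀ : σ c₀ ≠ 0 := fun h => hc₀0 ((map_eq_zero σ).1 h)
    obtain ⟨g₀, hg₀S, hg₀⟩ := Cfsg.Agent.S5643.tvGL hf y (c₀ • y) (by
      rw [f_smul_right hf, hyy, mul_zero])
    have hg₀iso : Iso f g₀ := Cfsg.Agent.S5643.utv_iso hf y hyy c₀ hc₀ g₀ hg₀
    have hg₀G : g₀ ∈ G := (hG g₀).2 ⟨hg₀iso, hg₀S⟩
    have hg₀E : IsE f g₀ y 0 (σ c₀) := by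
      rw [isE_central_iff hf]
      intro x
      rw [hg₀ x, f_smul_right hf]
    have hg₀c : ∀ a, a < 2 * M → (g₀ : Matrix (Fin n) (Fin n) F) *ᵥ c a = c a := by
      intro a ha
      rw [hg₀, f_smul_right hf, Wp_right hf hyW ha, mul_zero, zero_smul, add_zero]
    have hg₀pow : g₀ ^ Fintype.card F = 1 := by
      have h1 := isE_pow_central hf hyy hg₀E (Fintype.card F)
      rw [Nat.cast_card_eq_zero, zero_mul] at h1
      exact isE_ext h1 (isE_one hf y)
    have hg₀w₀ : (g₀ : Matrix (Fin n) (Fin n) F) *ᵥ w₀ = w₀ + σ c₀ • y := by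
      rw [hg₀, f_smul_right hf, hw₀y, mul_one]
    have hWspan : ∀ w ∈ Wp f M c, ∃ α β : F,
        w = α • w₀ + β • ((g₀ : Matrix (Fin n) (Fin n) F) *ᵥ w₀) := by
      intro w hw
      obtain ⟨β, hβdef⟩ : ∃ β, β = f w w₁ / (σ c₀ * ξ) := ⟨_, rfl⟩
      have hβ : β * (σ c₀ * ξ) = f w w₁ := by
        rw [hβdef]
        field_simp
      refine ⟨f w w₀ - β * (1 + σ c₀), β, ?_⟩
      rw [hg₀w₀, hydef]
      conv_lhs => rw [hWs w hw, ← hβ]
      module
    have hcomm : Commute h g₀ := by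
      have hhiso : Iso f h := hG.iso hhG
      have h1 := isE_conj hhiso hg₀E
      rw [hhW y hyW, Matrix.mulVec_zero] at h1
      have h2 : h * g₀ * h⁻¹ = g₀ := isE_ext h1 hg₀E
      show h * g₀ = g₀ * h
      conv_rhs => rw [← h2]
      group
    exact core1 hf hG hgen fr (by omega) hw₀ hw₀1 hg₀G hg₀c hg₀pow hWspan hnG hnn hhG hdiag
      hh0 hh1 (fun w hw => by rw [one_smul]; exact hhW w hw) hcomm hfgenκ hk₁
  · -- `n = 2M + 1`
    obtain ⟨M, hM⟩ := ho
    have hM2 : 2 ≤ M := by omega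
    obtain ⟨c, w₀, fr, hw₀, hw₀1, hWs⟩ := exists_frame1 hf M hM
    obtain ⟨nn, hnG, hnn⟩ := cox_exists hf hG fr (by omega : 1 ≤ M)
    obtain ⟨h, hhG, hh0, hh1, hdiag, hhW⟩ := torus_pairs hf hG fr hM2 κ hκ0
    exact core1 hf hG hgen fr (by omega) hw₀ hw₀1 hone
      (fun a _ => by rw [Units.val_one, Matrix.one_mulVec]) (one_pow _)
      (fun w hw => ⟨f w w₀, 0, by
        rw [zero_smul, add_zero]
        exact hWs w hw⟩) hnG hnn hhG hdiag hh0 hh1
      (fun w hw => by rw [one_smul]; exact hhW w hw) (Commute.one_right h) hfgenκ hk₁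

end Cfsg.Agent.Lib.Helper29.UG
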