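import Cfsg.Agent.Lib.Helper29.UG.UWact

/-!
# A Coxeter element for a hyperbolic frame (unitary case)
-/

set_option autoImplicit false

namespace Cfsg.Agent.Lib.Helper29.UG

open Matrix Cfsg.Agent.Lib.Helper28.UForm Cfsg.Agent.Lib.Helper28.UGen
  Cfsg.Agent.Lib.Helper28.UMax Cfsg.Agent.Lib.Helper28.UMax2 Cfsg.Agent.Lib.Helper28.UPair

variable {n : ℕ} {F : Type*} [Field F] {σ : F ≃+* F} {f : (Fin n → F) → (Fin n → F) → F}

/-- the index permutation of the partial Coxeter product `n_k ⋯ n_{m-2} n_long`. -/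
def Sx (m k a : ℕ) : ℕ :=
  if a < k then a else if a < m - 1 then a + 1 else if a = m - 1 then k + m
  else if a < k + m then a else if a < 2 * m - 1 then a + 1 else k

/-- the index permutation of `n_k`. -/
def tx (m k b : ℕ) : ℕ :=
  if b = k then k + 1 else if b = k + 1 then k else if b = k + m then k + 1 + m
  else if b = k + 1 + m then k + m else b

/-- the cyclic shift of `{0, …, 2m-1}`. -/
def cyc (m a : ℕ) : ℕ := if a + 1 < 2 * m then a + 1 else 0

theorem tx_Sx {m k a : ℕ} (hk : k + 1 ≤ m - 1) (ha : a < 2 * m) :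
    tx m k (Sx m (k + 1) a) = Sx m k a := by
  unfold tx Sx
  split_ifs <;> omega

theorem Sx_lt {m k a : ℕ} (hk : k ≤ m - 1) (hm : 1 ≤ m) (ha : a < 2 * m) : Sx m k a < 2 * m := by
  unfold Sx
  split_ifs <;> omega

theorem Sx_zero {m a : ℕ} (hm : 1 ≤ m) (ha : a < 2 * m) : Sx m 0 a = cyc m a := by
  unfold Sx cyc
  split_ifs <;> omega

variable {m : ℕ}

/-- `g` is monomial on the frame with index map `τ` and fixes `Wp` pointwise. -/
def Mono (f : (Fin n → F) → (Fin n → F) → F) (m : ℕ) (c : ℕ → Fin n → F)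
    (g : Matrix.GeneralLinearGroup (Fin n) F) (τ : ℕ → ℕ) : Prop :=
  (∀ a, a < 2 * m → ∃ ε : F, ε ≠ 0 ∧ (g : Matrix (Fin n) (Fin n) F) *ᵥ c a = ε • c (τ a)) ∧
    ∀ w ∈ Wp f m c, (g : Matrix (Fin n) (Fin n) F) *ᵥ w = w

variable {c : ℕ → Fin n → F}

theorem Mono.mul {g₁ g₂ : Matrix.GeneralLinearGroup (Fin n) F} {τ₁ τ₂ : ℕ → ℕ}
    (h₁ : Mono f m c g₁ τ₁) (h₂ : Mono f m c g₂ τ₂) (hτ : ∀ a, a < 2 * m → τ₂ a < 2 * m) :
    Mono f m c (g₁ * g₂) (fun a => τ₁ (τ₂ a)) := by
  refine ⟨fun a ha => ?_, fun w hw => ?_⟩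
  · obtain ⟨ε₂, hε₂, e₂⟩ := h₂.1 a ha
    obtain ⟨ε₁, hε₁, e₁⟩ := h₁.1 (τ₂ a) (hτ a ha)
    refine ⟨ε₂ * ε₁, mul_ne_zero hε₂ hε₁, ?_⟩
    rw [Cfsg.Agent.S5643.mul_mv, e₂, Matrix.mulVec_smul, e₁, smul_smul]
  · rw [Cfsg.Agent.S5643.mul_mv, h₂.2 w hw, h₁.2 w hw]

theorem Mono.congr {g : Matrix.GeneralLinearGroup (Fin n) F} {τ τ' : ℕ → ℕ}
    (h : Mono f m c g τ) (hτ : ∀ a, a < 2 * m → τ a = τ' a) : Mono f m c g τ' := by
  refine ⟨fun a ha => ?_, h.2⟩
  obtain ⟨ε, hε, e⟩ := h.1 a ha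
  exact ⟨ε, hε, by rw [e, hτ a ha]⟩

theorem UFrame.zero_of_ne (hf : Cfsg.Geo.IsUnitaryForm σ f) (fr : UFrame f m c) {a b : ℕ}
    (ha : a < 2 * m) (hb : b < 2 * m) (h : a ≠ pr m b) : f (c a) (c b) = 0 := by
  rw [fr.gram hf ha hb, if_neg h]

/-- the pair-swapping Weyl element `n_k` is monomial. -/
theorem wmono (hf : Cfsg.Geo.IsUnitaryForm σ f)
    {G : Subgroup (Matrix.GeneralLinearGroup (Fin n) F)}
    (hG : IsSUGroup f G) (fr : UFrame f m c) {k : ℕ} (hk : k + 1 < m) :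
    ∃ g ∈ G, Mono f m c g (tx m k) := by
  have hD : HQuad f (c k) (c (k + m)) (c (k + 1 + m)) (c (k + 1)) :=
    { pp := fr.iso _ (by omega)
      p'p' := fr.iso _ (by omega)
      rr := fr.iso _ (by omega)
      r'r' := fr.iso _ (by omega)
      pp' := fr.pair _ (by omega)
      rr' := fr.pair' hf (by omega)
      pr := fr.zero_of_ne hf (by omega) (by omega) (by unfold pr; split_ifs <;> omega)
      pr' := fr.zero_of_ne hf (by omega) (by omega) (by unfold pr; split_ifs <;> omega)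
      p'r := fr.zero_of_ne hf (by omega) (by omega) (by unfold pr; split_ifs <;> omega)
      p'r' := fr.zero_of_ne hf (by omega) (by omega) (by unfold pr; split_ifs <;> omega) }
  obtain ⟨g, hgG, g1, g2, g3, g4, g5⟩ := W_exists hf hG hD 1 1 (by rw [map_one, one_mul])
  refine ⟨g, hgG, fun b hb => ?_, fun w hw => ?_⟩
  · by_cases h1 : b = k
    · subst h1
      refine ⟨1, one_ne_zero, ?_⟩
      rw [g1]
      unfold tx
      rw [if_pos rfl]
    by_cases h2 : b = k + 1
    · subst h2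
      refine ⟨-σ 1, by rw [map_one]; exact neg_ne_zero.2 one_ne_zero, ?_⟩
      rw [g2]
      unfold tx
      rw [if_neg (by omega), if_pos rfl]
    by_cases h3 : b = k + m
    · subst h3
      refine ⟨1, one_ne_zero, ?_⟩
      rw [g4]
      unfold tx
      rw [if_neg (by omega), if_neg (by omega), if_pos rfl]
    by_cases h4 : b = k + 1 + m
    · subst h4
      refine ⟨-σ 1, by rw [map_one]; exact neg_ne_zero.2 one_ne_zero, ?_⟩
      rw [g3]
      unfold tx
      rw [if_neg (by omega), if_neg (by omega), if_neg (by omega), if_pos rfl]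
    · refine ⟨1, one_ne_zero, ?_⟩
      have e : tx m k b = b := by
        unfold tx
        rw [if_neg h1, if_neg h2, if_neg h3, if_neg h4]
      rw [e, one_smul]
      exact g5 (c b)
        (fr.zero_of_ne hf hb (by omega) (by unfold pr; split_ifs <;> omega))
        (fr.zero_of_ne hf hb (by omega) (by unfold pr; split_ifs <;> omega))
        (fr.zero_of_ne hf hb (by omega) (by unfold pr; split_ifs <;> omega))
        (fr.zero_of_ne hf hb (by omega) (by unfold pr; split_ifs <;> omega))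
  · exact g5 w (hw _ (by omega)) (hw _ (by omega)) (hw _ (by omega)) (hw _ (by omega))

/-- the long-root Weyl element of the last pair is monomial. -/
theorem nlong_mono (hf : Cfsg.Geo.IsUnitaryForm σ f)
    {G : Subgroup (Matrix.GeneralLinearGroup (Fin n) F)}
    (hG : IsSUGroup f G) (fr : UFrame f m c) (hm : 1 ≤ m) :
    ∃ g ∈ G, Mono f m c g (Sx m (m - 1)) := by
  have e1 : m - 1 + m = 2 * m - 1 := by omega
  have hcc' : f (c (m - 1)) (c (2 * m - 1)) = 1 := by
    rw [← e1]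
    exact fr.pair _ (by omega)
  obtain ⟨c₀, hc₀, g, hgG, g1, g2, g3⟩ := Nlong_exists hf hG (fr.iso (m - 1) (by omega))
    (fr.iso (2 * m - 1) (by omega)) hcc'
  refine ⟨g, hgG, fun b hb => ?_, fun w hw => ?_⟩
  · by_cases h1 : b = m - 1
    · subst h1
      refine ⟨c₀, hc₀, ?_⟩
      have e : Sx m (m - 1) (m - 1) = 2 * m - 1 := by
        unfold Sx
        split_ifs <;> omega
      rw [g1, e]
    by_cases h2 : b = 2 * m - 1
    · subst h2
      refine ⟨-c₀⁻¹, neg_ne_zero.2 (inv_ne_zero hc₀), ?_⟩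
      have e : Sx m (m - 1) (2 * m - 1) = m - 1 := by
        unfold Sx
        split_ifs <;> omega
      rw [g2, e]
    · refine ⟨1, one_ne_zero, ?_⟩
      have e : Sx m (m - 1) b = b := by
        unfold Sx
        split_ifs <;> omega
      rw [e, one_smul]
      exact g3 (c b)
        (fr.zero_of_ne hf hb (by omega) (by unfold pr; split_ifs <;> omega))
        (fr.zero_of_ne hf hb (by omega) (by unfold pr; split_ifs <;> omega))
  · exact g3 w (hw _ (by omega)) (hw _ (by omega))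

theorem cox_aux (hf : Cfsg.Geo.IsUnitaryForm σ f)
    {G : Subgroup (Matrix.GeneralLinearGroup (Fin n) F)}
    (hG : IsSUGroup f G) (fr : UFrame f m c) (hm : 1 ≤ m) :
    ∀ j k : ℕ, j + k = m - 1 → ∃ g ∈ G, Mono f m c g (Sx m k) := by
  intro j
  induction j with
  | zero =>
    intro k hk
    have : k = m - 1 := by omega
    subst this
    exact nlong_mono hf hG fr hm
  | succ j ih =>
    intro k hk
    obtain ⟨g₁, hg₁G, hg₁⟩ := ih (k + 1) (by omega)
    obtain ⟨w, hwG, hw⟩ := wmono hf hG fr (k := k) (by omega)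
    refine ⟨w * g₁, G.mul_mem hwG hg₁G, ?_⟩
    have h1 := hw.mul hg₁ (fun a ha => Sx_lt (by omega) hm ha)
    exact h1.congr (fun a ha => tx_Sx (by omega) ha)

/-- existence of a Coxeter element: cyclic shift of the `2m` frame lines, fixing `Wp`. -/
theorem cox_exists (hf : Cfsg.Geo.IsUnitaryForm σ f)
    {G : Subgroup (Matrix.GeneralLinearGroup (Fin n) F)}
    (hG : IsSUGroup f G) (fr : UFrame f m c) (hm : 1 ≤ m) :
    ∃ g ∈ G, Mono f m c g (cyc m) := by
  obtain ⟨g, hgG, hg⟩ := cox_aux hf hG fr hm (m - 1) 0 (by omega)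
  exact ⟨g, hgG, hg.congr (fun a ha => Sx_zero hm ha)⟩

end Cfsg.Agent.Lib.Helper29.UG
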