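import Cfsg.Agent.Lib.Helper29.UG.UE

/-!
# Hyperbolic frames in an abstract unitary space
-/

set_option autoImplicit false

namespace Cfsg.Agent.Lib.Helper29.UG

open Matrix Cfsg.Agent.Lib.Helper28.UForm Cfsg.Agent.Lib.Helper28.UGen
  Cfsg.Agent.Lib.Helper28.UMax Cfsg.Agent.Lib.Helper28.UMax2

variable {n : ℕ} {F : Type*} [Field F] {σ : F ≃+* F} {f : (Fin n → F) → (Fin n → F) → F}

/-- the partner index. -/
def pr (m a : ℕ) : ℕ := if a < m then a + m else a - m

theorem pr_lt {m a : ℕ} (ha : a < 2 * m) : pr m a < 2 * m := by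
  unfold pr; split_ifs <;> omega

theorem pr_pr {m a : ℕ} (ha : a < 2 * m) : pr m (pr m a) = a := by
  unfold pr; split_ifs <;> omega

theorem pr_of_lt {m a : ℕ} (ha : a < m) : pr m a = a + m := by
  unfold pr; rw [if_pos ha]

theorem pr_add {m a : ℕ} : pr m (a + m) = a := by
  unfold pr; rw [if_neg (by omega)]; omega

theorem pr_ne {m a : ℕ} (hm : 1 ≤ m) : pr m a ≠ a := by
  unfold pr; split_ifs <;> omega

/-- a hyperbolic frame: `c a` (`a < 2m`) isotropic, `c a` paired with `c (a+m)`. -/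
structure UFrame (f : (Fin n → F) → (Fin n → F) → F) (m : ℕ) (c : ℕ → Fin n → F) : Prop where
  iso : ∀ a, a < 2 * m → f (c a) (c a) = 0
  pair : ∀ a, a < m → f (c a) (c (a + m)) = 1
  orth : ∀ a b, a < 2 * m → b < 2 * m → a ≠ b → b ≠ a + m → a ≠ b + m → f (c a) (c b) = 0

/-- the orthogonal complement of the frame. -/
def Wp (f : (Fin n → F) → (Fin n → F) → F) (m : ℕ) (c : ℕ → Fin n → F) : Set (Fin n → F) :=
  {w | ∀ a, a < 2 * m → f w (c a) = 0}

variable {m : ℕ} {c : ℕ → Fin n → F}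

theorem Wp_zero (hf : Cfsg.Geo.IsUnitaryForm σ f) : (0 : Fin n → F) ∈ Wp f m c :=
  fun a _ => f_zero_left hf _

theorem Wp_add (hf : Cfsg.Geo.IsUnitaryForm σ f) {w w' : Fin n → F} (hw : w ∈ Wp f m c)
    (hw' : w' ∈ Wp f m c) : w + w' ∈ Wp f m c :=
  fun a ha => by rw [hf.add_left, hw a ha, hw' a ha, add_zero]

theorem Wp_smul (hf : Cfsg.Geo.IsUnitaryForm σ f) (k : F) {w : Fin n → F} (hw : w ∈ Wp f m c) :
    k • w ∈ Wp f m c := fun a ha => by rw [hf.smul_left, hw a ha, mul_zero]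

theorem Wp_neg (hf : Cfsg.Geo.IsUnitaryForm σ f) {w : Fin n → F} (hw : w ∈ Wp f m c) :
    -w ∈ Wp f m c := fun a ha => by rw [f_neg_left hf, hw a ha, neg_zero]

theorem Wp_sub (hf : Cfsg.Geo.IsUnitaryForm σ f) {w w' : Fin n → F} (hw : w ∈ Wp f m c)
    (hw' : w' ∈ Wp f m c) : w - w' ∈ Wp f m c :=
  fun a ha => by rw [f_sub_left hf, hw a ha, hw' a ha, sub_zero]

theorem Wp_right (hf : Cfsg.Geo.IsUnitaryForm σ f) {w : Fin n → F} (hw : w ∈ Wp f m c)
    {a : ℕ} (ha : a < 2 * m) : f (c a) w = 0 := f_swap_zero hf (hw a ha)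

theorem UFrame.pair' (hf : Cfsg.Geo.IsUnitaryForm σ f) (fr : UFrame f m c) {a : ℕ} (ha : a < m) :
    f (c (a + m)) (c a) = 1 := by
  rw [hf.herm, fr.pair a ha, map_one]

/-- `f (c (pr b)) (c b) = 1`. -/
theorem UFrame.hpp (hf : Cfsg.Geo.IsUnitaryForm σ f) (fr : UFrame f m c) {b : ℕ}
    (hb : b < 2 * m) : f (c (pr m b)) (c b) = 1 := by
  by_cases hbm : b < m
  · rw [pr_of_lt hbm]
    exact fr.pair' hf hbm
  · obtain ⟨b', hb', rfl⟩ : ∃ b', b' < m ∧ b = b' + m := ⟨b - m, by omega, by omega⟩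
    rw [pr_add]
    exact fr.pair b' hb'

theorem UFrame.hpp' (hf : Cfsg.Geo.IsUnitaryForm σ f) (fr : UFrame f m c) {b : ℕ}
    (hb : b < 2 * m) : f (c b) (c (pr m b)) = 1 := by
  rw [hf.herm, fr.hpp hf hb, map_one]

/-- Gram matrix of the frame. -/
theorem UFrame.gram (hf : Cfsg.Geo.IsUnitaryForm σ f) (fr : UFrame f m c) {a b : ℕ}
    (ha : a < 2 * m) (hb : b < 2 * m) : f (c a) (c b) = if a = pr m b then 1 else 0 := by
  by_cases h : a = pr m b
  · rw [if_pos h, h]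
    exact fr.hpp hf hb
  · rw [if_neg h]
    by_cases hab : a = b
    · rw [hab]; exact fr.iso b hb
    · apply fr.orth a b ha hb hab
      · intro h'; apply h; rw [h', pr_add]
      · intro h'; apply h; rw [h']; unfold pr; rw [if_pos (by omega)]

theorem UFrame.ne_zero (hf : Cfsg.Geo.IsUnitaryForm σ f) (fr : UFrame f m c) {a : ℕ}
    (ha : a < 2 * m) : c a ≠ 0 := by
  intro h
  have := fr.hpp' hf ha
  rw [h, f_zero_left hf] at this
  exact zero_ne_one this

/-- the frame part of a vector. -/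
noncomputable def fpart (f : (Fin n → F) → (Fin n → F) → F) (m : ℕ) (c : ℕ → Fin n → F)
    (x : Fin n → F) : Fin n → F :=
  ∑ a ∈ Finset.range (2 * m), f x (c (pr m a)) • c a

/-- every vector is its frame part plus an element of `Wp`. -/
theorem UFrame.sub_mem_Wp (hf : Cfsg.Geo.IsUnitaryForm σ f) (fr : UFrame f m c) (x : Fin n → F) :
    x - fpart f m c x ∈ Wp f m c := by
  intro b hb
  rw [f_sub_left hf]
  unfold fpart
  rw [f_sum_left hf, Finset.sum_eq_single (pr m b)]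
  · rw [hf.smul_left, fr.hpp hf hb, pr_pr hb, mul_one, sub_self]
  · intro a ha hab
    rw [hf.smul_left, fr.gram hf (Finset.mem_range.1 ha) hb, if_neg hab, mul_zero]
  · intro h
    exact absurd (Finset.mem_range.2 (pr_lt hb)) h

/-- two elements of `GL` agreeing on the frame and on `Wp` are equal. -/
theorem UFrame.ext_gl (hf : Cfsg.Geo.IsUnitaryForm σ f) (fr : UFrame f m c)
    (g g' : Matrix.GeneralLinearGroup (Fin n) F)
    (hc : ∀ a, a < 2 * m → (g : Matrix (Fin n) (Fin n) F) *ᵥ c a =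
      (g' : Matrix (Fin n) (Fin n) F) *ᵥ c a)
    (hw : ∀ w ∈ Wp f m c, (g : Matrix (Fin n) (Fin n) F) *ᵥ w =
      (g' : Matrix (Fin n) (Fin n) F) *ᵥ w) :
    g = g' := by
  apply gl_ext
  intro x
  have hx : x = fpart f m c x + (x - fpart f m c x) := by abel
  have key : ∀ (L : (Fin n → F) →ₗ[F] (Fin n → F)),
      L (fpart f m c x) = ∑ a ∈ Finset.range (2 * m), f x (c (pr m a)) • L (c a) := by
    intro L
    unfold fpart
    rw [map_sum]
    apply Finset.sum_congr rfl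
    intro a _
    rw [map_smul]
  have h1 := key (Matrix.mulVecLin (g : Matrix (Fin n) (Fin n) F))
  have h2 := key (Matrix.mulVecLin (g' : Matrix (Fin n) (Fin n) F))
  simp only [Matrix.mulVecLin_apply] at h1 h2
  rw [hx, Matrix.mulVec_add, Matrix.mulVec_add, h1, h2, hw _ (fr.sub_mem_Wp hf x)]
  congr 1
  apply Finset.sum_congr rfl
  intro a ha
  rw [hc a (Finset.mem_range.1 ha)]

/-- powers of an element acting by a scalar on a vector. -/
theorem pow_mulVec_eig (g : Matrix.GeneralLinearGroup (Fin n) F) {v : Fin n → F} {μ : F}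
    (h : (g : Matrix (Fin n) (Fin n) F) *ᵥ v = μ • v) (k : ℕ) :
    ((g ^ k : Matrix.GeneralLinearGroup (Fin n) F) : Matrix (Fin n) (Fin n) F) *ᵥ v =
      μ ^ k • v := by
  induction k with
  | zero => rw [pow_zero, pow_zero, Units.val_one, Matrix.one_mulVec, one_smul]
  | succ k ih =>
    rw [pow_succ, Cfsg.Agent.S5643.mul_mv, h, Matrix.mulVec_smul, ih, smul_smul, pow_succ,
      mul_comm]

/-- an isometry fixing the frame vectors up to scalars maps `Wp` into `Wp`. -/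
theorem Wp_of_mono (hf : Cfsg.Geo.IsUnitaryForm σ f) {g : Matrix.GeneralLinearGroup (Fin n) F}
    (hg : Iso f g) {τ : ℕ → ℕ} (hτ : ∀ b, b < 2 * m → ∃ a, a < 2 * m ∧ τ a = b)
    (hmono : ∀ a, a < 2 * m → ∃ ε : F, ε ≠ 0 ∧
      (g : Matrix (Fin n) (Fin n) F) *ᵥ c a = ε • c (τ a))
    {w : Fin n → F} (hw : w ∈ Wp f m c) :
    (g : Matrix (Fin n) (Fin n) F) *ᵥ w ∈ Wp f m c := by
  intro b hb
  obtain ⟨a, ha, rfl⟩ := hτ b hb
  obtain ⟨ε, hε, e⟩ := hmono a ha
  have h1 : f ((g : Matrix (Fin n) (Fin n) F) *ᵥ w) (ε • c (τ a)) = 0 := by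
    rw [← e, hg, hw a ha]
  rw [f_smul_right hf] at h1
  rcases mul_eq_zero.1 h1 with h | h
  · exact absurd ((map_eq_zero σ).1 h) hε
  · exact h

end Cfsg.Agent.Lib.Helper29.UG
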