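import Cfsg.Agent.Lib.Helper29.UG.UOpp
import Cfsg.Agent.Lib.Helper29.UG.UFrame

/-!
# From root groups to the full Siegel group at a frame vector
-/

set_option autoImplicit false

namespace Cfsg.Agent.Lib.Helper29.UG

open Matrix Cfsg.Agent.Lib.Helper28.UForm Cfsg.Agent.Lib.Helper28.UGen
  Cfsg.Agent.Lib.Helper28.UMax Cfsg.Agent.Lib.Helper28.UMax2

variable {n : ℕ} {F : Type*} [Field F] {σ : F ≃+* F} {f : (Fin n → F) → (Fin n → F) → F}
variable {m : ℕ} {c : ℕ → Fin n → F} {H : Subgroup (Matrix.GeneralLinearGroup (Fin n) F)}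

/-- the Siegel elements at `c a` with vector in `Wp` lie in `H`. -/
def FS (f : (Fin n → F) → (Fin n → F) → F) (σ : F ≃+* F) (m : ℕ) (c : ℕ → Fin n → F)
    (H : Subgroup (Matrix.GeneralLinearGroup (Fin n) F)) (a : ℕ) : Prop :=
  ∀ w ∈ Wp f m c, ∀ (γ : F) (t : Matrix.GeneralLinearGroup (Fin n) F),
    γ + σ γ = -f w w → IsE f t (c a) w γ → t ∈ H

/-- the short root group `E(c a, k c b, 0)` lies in `H`. -/
def FL (f : (Fin n → F) → (Fin n → F) → F) (c : ℕ → Fin n → F)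
    (H : Subgroup (Matrix.GeneralLinearGroup (Fin n) F)) (a b : ℕ) : Prop :=
  ∀ (k : F) (t : Matrix.GeneralLinearGroup (Fin n) F), IsE f t (c a) (k • c b) 0 → t ∈ H

/-- the radical lemma. -/
theorem rad (hf : Cfsg.Geo.IsUnitaryForm σ f) (hHiso : ∀ g ∈ H, Iso f g) (fr : UFrame f m c)
    {a₀ : ℕ} (ha₀ : a₀ < 2 * m) (hFS : FS f σ m c H a₀)
    (hFL : ∀ b, b < 2 * m → b ≠ a₀ → b ≠ pr m a₀ → FL f c H a₀ b) :
    FullE f σ H (c a₀) := by
  classical
  have hu := fr.iso a₀ ha₀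
  have hu0 := fr.ne_zero hf ha₀
  refine ⟨hu, fun v γ t hv hγ ht => ?_⟩
  -- the central elements
  have hZ : ∀ (δ : F) (z : Matrix.GeneralLinearGroup (Fin n) F), δ + σ δ = 0 →
      IsE f z (c a₀) 0 δ → z ∈ H := by
    intro δ z hδ hz
    exact hFS 0 (Wp_zero hf) δ z (by rw [hδ, f_zero_left hf, neg_zero]) hz
  -- weak claim for frame combinations
  have key : ∀ (s : Finset ℕ) (g : ℕ → F), (∀ a ∈ s, a < 2 * m) →
      (∀ a ∈ s, a = pr m a₀ → g a = 0) →
      f (∑ a ∈ s, g a • c a) (c a₀) = 0 ∧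
      ∃ (γ' : F) (t' : Matrix.GeneralLinearGroup (Fin n) F),
        IsE f t' (c a₀) (∑ a ∈ s, g a • c a) γ' ∧ t' ∈ H := by
    intro s g
    induction s using Finset.induction_on with
    | empty =>
      intro _ _
      rw [Finset.sum_empty]
      exact ⟨f_zero_left hf _, 0, 1, isE_one hf _, H.one_mem⟩
    | insert a s has ih =>
      intro hs hg
      have ha : a < 2 * m := hs a (Finset.mem_insert_self a s)
      obtain ⟨ih1, γ₂, t₂, ht₂, ht₂H⟩ := ih (fun b hb => hs b (Finset.mem_insert_of_mem hb))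
        (fun b hb => hg b (Finset.mem_insert_of_mem hb))
      rw [Finset.sum_insert has]
      have hterm : f (g a • c a) (c a₀) = 0 ∧
          ∃ (γ₁ : F) (t₁ : Matrix.GeneralLinearGroup (Fin n) F),
            IsE f t₁ (c a₀) (g a • c a) γ₁ ∧ t₁ ∈ H := by
        by_cases h1 : a = pr m a₀
        · rw [hg a (Finset.mem_insert_self a s) h1, zero_smul]
          exact ⟨f_zero_left hf _, 0, 1, isE_one hf _, H.one_mem⟩
        · have hz : f (g a • c a) (c a₀) = 0 := by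
            rw [hf.smul_left, fr.gram hf ha ha₀, if_neg h1, mul_zero]
          refine ⟨hz, ?_⟩
          by_cases h2 : a = a₀
          · subst h2
            have hδ : (g a - σ (g a)) + σ (g a - σ (g a)) = -f (0 : Fin n → F) 0 := by
              rw [map_sub, hf.involutive, f_zero_left hf]
              ring
            obtain ⟨z, _, _, hz'⟩ := exists_isE hf hu (f_zero_left hf _) hδ
            have hzH : z ∈ H := hZ _ z (by rw [hδ, f_zero_left hf, neg_zero]) hz'
            refine ⟨0, z, ?_, hzH⟩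
            have h3 : IsE f z (c a) (0 + g a • c a) 0 :=
              isE_add_center' hf (by rw [zero_add]; exact hz')
            rwa [zero_add] at h3
          · have hγ0 : (0 : F) + σ 0 = -f (g a • c a) (g a • c a) := by
              rw [hf.smul_left, f_smul_right hf, fr.iso a ha, map_zero]
              ring
            obtain ⟨t₁, _, _, ht₁⟩ := exists_isE hf hu hz hγ0
            exact ⟨0, t₁, ht₁, hFL a ha h2 h1 (g a) t₁ ht₁⟩
      obtain ⟨ht0, γ₁, t₁, ht₁, ht₁H⟩ := hterm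
      refine ⟨by rw [hf.add_left, ht0, ih1, add_zero], _, t₁ * t₂,
        isE_mul hf hu ht0 ih1 ht₁ ht₂, H.mul_mem ht₁H ht₂H⟩
  obtain ⟨hfp0, γ₁, t₁, ht₁, ht₁H⟩ := key (Finset.range (2 * m)) (fun a => f v (c (pr m a)))
    (fun a ha => Finset.mem_range.1 ha) (fun a _ h => by
      show f v (c (pr m a)) = 0
      rw [h, pr_pr ha₀, hv])
  have hfp : (∑ a ∈ Finset.range (2 * m), f v (c (pr m a)) • c a) = fpart f m c v := rfl
  rw [hfp] at hfp0 ht₁
  -- the `Wp` part
  have hw := fr.sub_mem_Wp hf v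
  have hwu : f (v - fpart f m c v) (c a₀) = 0 := hw a₀ ha₀
  have hfix : σ (-f (v - fpart f m c v) (v - fpart f m c v)) =
      -f (v - fpart f m c v) (v - fpart f m c v) := by rw [map_neg, f_self_fixed hf]
  obtain ⟨γ₂, hγ₂⟩ := trace_surj hf _ hfix
  obtain ⟨t₂, _, _, ht₂⟩ := exists_isE hf hu hwu hγ₂
  have ht₂H : t₂ ∈ H := hFS _ hw γ₂ t₂ hγ₂ ht₂
  have h12 := isE_mul hf hu hfp0 hwu ht₁ ht₂
  have e : fpart f m c v + (v - fpart f m c v) = v := by abel
  rw [e] at h12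
  have h12H : t₁ * t₂ ∈ H := H.mul_mem ht₁H ht₂H
  have hval := isE_valid hf hu hv hu0 (hHiso _ h12H) h12
  -- adjust the centre
  obtain ⟨γ₃, hγ₃def⟩ : ∃ γ₃, γ₃ = γ₁ + γ₂ - f (v - fpart f m c v) (fpart f m c v) := ⟨_, rfl⟩
  rw [← hγ₃def] at h12 hval
  have hδ : (γ - γ₃) + σ (γ - γ₃) = -f (0 : Fin n → F) 0 := by
    rw [map_sub, f_zero_left hf]
    linear_combination hγ - hval
  obtain ⟨z, _, _, hz⟩ := exists_isE hf hu (f_zero_left hf _) hδ
  have hzH : z ∈ H := hZ _ z (by rw [hδ, f_zero_left hf, neg_zero]) hz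
  have h3 := isE_mul hf hu hv (f_zero_left hf _) h12 hz
  have h4 : IsE f (t₁ * t₂ * z) (c a₀) v γ := by
    refine isE_congr h3 (by rw [add_zero]) ?_
    rw [f_zero_left hf]
    ring
  rw [isE_ext ht h4]
  exact H.mul_mem h12H hzH

end Cfsg.Agent.Lib.Helper29.UG
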