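import Cfsg.Agent.Lib.Helper29.UG.UStein
import Cfsg.Agent.Lib.Helper29.UG.URad
import Cfsg.Agent.Lib.Helper29.UG.UCox

/-!
# Two generators for `SU` with a hyperbolic frame and a unit vector in its complement
-/

set_option autoImplicit false

namespace Cfsg.Agent.Lib.Helper29.UG

open Matrix Cfsg.Agent.Lib.Helper28.UForm Cfsg.Agent.Lib.Helper28.UGen
  Cfsg.Agent.Lib.Helper28.UMax Cfsg.Agent.Lib.Helper28.UMax2 Cfsg.Agent.Lib.Helper28.UPair

variable {n : ℕ} {F : Type*} [Field F] {σ : F ≃+* F} {f : (Fin n → F) → (Fin n → F) → F}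
variable {m : ℕ} {c : ℕ → Fin n → F}

/-- the Siegel elements `E(c a, k v, *)` which are isometries lie in `H`. -/
def LS (f : (Fin n → F) → (Fin n → F) → F) (c : ℕ → Fin n → F)
    (H : Subgroup (Matrix.GeneralLinearGroup (Fin n) F)) (a : ℕ) (v : Fin n → F) : Prop :=
  ∀ (k γ : F) (t : Matrix.GeneralLinearGroup (Fin n) F), Iso f t → IsE f t (c a) (k • v) γ → t ∈ H

theorem inv_mulVec_of_smul {g : Matrix.GeneralLinearGroup (Fin n) F} {x y : Fin n → F} {ε : F}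
    (hε : ε ≠ 0) (h : (g : Matrix (Fin n) (Fin n) F) *ᵥ x = ε • y) :
    ((g⁻¹ : Matrix.GeneralLinearGroup (Fin n) F) : Matrix (Fin n) (Fin n) F) *ᵥ y = ε⁻¹ • x := by
  have h1 : y = ε⁻¹ • ((g : Matrix (Fin n) (Fin n) F) *ᵥ x) := by
    rw [h, smul_smul, inv_mul_cancel₀ hε, one_smul]
  rw [h1, Matrix.mulVec_smul, Cfsg.Agent.S5643.inv_mv]

/-- **Core theorem.** -/
theorem core1 [Fintype F] (hf : Cfsg.Geo.IsUnitaryForm σ f)
    {G : Subgroup (Matrix.GeneralLinearGroup (Fin n) F)} (hG : IsSUGroup f G)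
    (hgen : ∀ g : Matrix.GeneralLinearGroup (Fin n) F,
      (∀ x y, f ((g : Matrix (Fin n) (Fin n) F) *ᵥ x) ((g : Matrix (Fin n) (Fin n) F) *ᵥ y) = f x y) →
      g ∈ Cfsg.Geo.specialLinear (Fin n) F → g ∈ Subgroup.closure (UT f σ))
    (fr : UFrame f m c) (hm : 1 ≤ m) {w₀ : Fin n → F} (hw₀ : w₀ ∈ Wp f m c) (hw₀1 : f w₀ w₀ = 1)
    {g₀ : Matrix.GeneralLinearGroup (Fin n) F} (hg₀G : g₀ ∈ G)
    (hg₀c : ∀ a, a < 2 * m → (g₀ : Matrix (Fin n) (Fin n) F) *ᵥ c a = c a)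
    (hg₀pow : g₀ ^ Fintype.card F = 1)
    (hWspan : ∀ w ∈ Wp f m c, ∃ α β : F,
      w = α • w₀ + β • ((g₀ : Matrix (Fin n) (Fin n) F) *ᵥ w₀))
    {nn : Matrix.GeneralLinearGroup (Fin n) F} (hnG : nn ∈ G) (hnn : Mono f m c nn (cyc m))
    {h : Matrix.GeneralLinearGroup (Fin n) F} (hhG : h ∈ G)
    (hdiag : ∀ a, a < 2 * m → ∃ μ : F, (h : Matrix (Fin n) (Fin n) F) *ᵥ c a = μ • c a)
    {lam lam2 muw : F}
    (hh0 : (h : Matrix (Fin n) (Fin n) F) *ᵥ c 0 = lam • c 0)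
    (hh2 : (h : Matrix (Fin n) (Fin n) F) *ᵥ c (2 * m - 1) = lam2 • c (2 * m - 1))
    (hhW : ∀ w ∈ Wp f m c, (h : Matrix (Fin n) (Fin n) F) *ᵥ w = muw • w)
    (hcomm : Commute h g₀) (hfgen : FGen (σ lam * muw))
    (hk₁ : (σ lam * muw - 1) * (1 - σ lam2 * muw) ≠ 0) :
    ∃ a ∈ G, ∃ b ∈ G, Subgroup.closure ({a, b} : Set (Matrix.GeneralLinearGroup (Fin n) F)) = G := by
  classical
  have hc0 : f (c 0) (c 0) = 0 := fr.iso 0 (by omega)
  have hw₀c0 : f w₀ (c 0) = 0 := hw₀ 0 (by omega)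
  -- the Siegel element `x`
  have hfix1 : σ (-f w₀ w₀) = -f w₀ w₀ := by rw [map_neg, f_self_fixed hf]
  obtain ⟨γ₀, hγ₀⟩ := trace_surj hf _ hfix1
  obtain ⟨x, hxS, hxiso, hx⟩ := exists_isE hf hc0 hw₀c0 hγ₀
  have hxG : x ∈ G := (hG x).2 ⟨hxiso, hxS⟩
  refine ⟨h * g₀, G.mul_mem hhG hg₀G, x * nn, G.mul_mem hxG hnG, ?_⟩
  have hHG : Subgroup.closure ({h * g₀, x * nn} : Set (Matrix.GeneralLinearGroup (Fin n) F)) ≤ G := by
    rw [Subgroup.closure_le]
    rintro y (rfl | rfl)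
    · exact G.mul_mem hhG hg₀G
    · exact G.mul_mem hxG hnG
  refine le_antisymm hHG ?_
  generalize hH : Subgroup.closure ({h * g₀, x * nn} : Set (Matrix.GeneralLinearGroup (Fin n) F)) = H
    at hHG ⊢
  have haH : h * g₀ ∈ H := by
    rw [← hH]
    exact Subgroup.subset_closure (Set.mem_insert _ _)
  have hbH : x * nn ∈ H := by
    rw [← hH]
    exact Subgroup.subset_closure (Set.mem_insert_of_mem _ rfl)
  have hHiso : ∀ g ∈ H, Iso f g := fun g hg => hG.iso (hHG hg)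
  have hniso : Iso f nn := hG.iso hnG
  have hhiso : Iso f h := hG.iso hhG
  have hg₀iso : Iso f g₀ := hG.iso hg₀G
  -- `h ^ |F| = h`
  have hhq : h ^ Fintype.card F = h := by
    apply fr.ext_gl hf
    · intro a ha
      obtain ⟨μ, hμ⟩ := hdiag a ha
      rw [pow_mulVec_eig h hμ, FiniteField.pow_card, hμ]
    · intro w hw
      rw [pow_mulVec_eig h (hhW w hw), FiniteField.pow_card, hhW w hw]
  have hhH : h ∈ H := by
    have h1 := H.pow_mem haH (Fintype.card F)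
    rw [hcomm.mul_pow, hhq, hg₀pow, mul_one] at h1
    exact h1
  have hg₀H : g₀ ∈ H := by
    have h1 := H.mul_mem (H.inv_mem hhH) haH
    rw [inv_mul_cancel_left] at h1
    exact h1
  -- the conjugate torus element
  have hcyc_last : cyc m (2 * m - 1) = 0 := by
    unfold cyc
    rw [if_neg (by omega)]
  have hpre : ∀ a, a < 2 * m → ∃ b, b < 2 * m ∧ cyc m b = a := by
    intro a ha
    by_cases h0 : a = 0
    · exact ⟨2 * m - 1, by omega, by rw [hcyc_last, h0]⟩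
    · refine ⟨a - 1, by omega, ?_⟩
      unfold cyc
      rw [if_pos (by omega)]
      omega
  have hninvW : ∀ w ∈ Wp f m c,
      ((nn⁻¹ : Matrix.GeneralLinearGroup (Fin n) F) : Matrix (Fin n) (Fin n) F) *ᵥ w = w := by
    intro w hw
    conv_lhs => rw [← hnn.2 w hw]
    rw [Cfsg.Agent.S5643.inv_mv]
  have hh'c : ∀ a, a < 2 * m → ∃ b, b < 2 * m ∧ cyc m b = a ∧ ∀ μ : F,
      (h : Matrix (Fin n) (Fin n) F) *ᵥ c b = μ • c b →
      ((nn * h * nn⁻¹ : Matrix.GeneralLinearGroup (Fin n) F) : Matrix (Fin n) (Fin n) F) *ᵥ c a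
        = μ • c a := by
    intro a ha
    obtain ⟨b, hb, hba⟩ := hpre a ha
    refine ⟨b, hb, hba, fun μ hμ => ?_⟩
    obtain ⟨ε, hε, e⟩ := hnn.1 b hb
    rw [hba] at e
    rw [Cfsg.Agent.S5643.mul_mv, Cfsg.Agent.S5643.mul_mv, inv_mulVec_of_smul hε e,
      Matrix.mulVec_smul, hμ, Matrix.mulVec_smul, Matrix.mulVec_smul, e, smul_smul, smul_smul]
    congr 1
    field_simp
  have hh'W : ∀ w ∈ Wp f m c,
      ((nn * h * nn⁻¹ : Matrix.GeneralLinearGroup (Fin n) F) : Matrix (Fin n) (Fin n) F) *ᵥ w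
        = muw • w := by
    intro w hw
    rw [Cfsg.Agent.S5643.mul_mv, Cfsg.Agent.S5643.mul_mv, hninvW w hw, hhW w hw,
      Matrix.mulVec_smul, hnn.2 w hw]
  have hh'0 : ((nn * h * nn⁻¹ : Matrix.GeneralLinearGroup (Fin n) F) :
      Matrix (Fin n) (Fin n) F) *ᵥ c 0 = lam2 • c 0 := by
    obtain ⟨b, hb, hba, hb2⟩ := hh'c 0 (by omega)
    have : b = 2 * m - 1 := by
      unfold cyc at hba
      split_ifs at hba <;> omega
    subst this
    exact hb2 lam2 hh2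
  have hcomm' : Commute h (nn * h * nn⁻¹) := by
    show h * (nn * h * nn⁻¹) = (nn * h * nn⁻¹) * h
    apply fr.ext_gl hf
    · intro a ha
      obtain ⟨b, hb, _, hb2⟩ := hh'c a ha
      obtain ⟨μb, hμb⟩ := hdiag b hb
      obtain ⟨μa, hμa⟩ := hdiag a ha
      rw [Cfsg.Agent.S5643.mul_mv, Cfsg.Agent.S5643.mul_mv (nn * h * nn⁻¹), hb2 μb hμb, hμa,
        Matrix.mulVec_smul, Matrix.mulVec_smul, hμa, hb2 μb hμb, smul_smul, smul_smul, mul_comm]
    · intro w hw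
      rw [Cfsg.Agent.S5643.mul_mv, Cfsg.Agent.S5643.mul_mv (nn * h * nn⁻¹), hh'W w hw, hhW w hw,
        Matrix.mulVec_smul, Matrix.mulVec_smul, hh'W w hw, hhW w hw]
  -- Steinberg's trick
  have hst := steinberg hf hHiso hhH hbH hniso hc0 hw₀c0 hx hh0 (hhW w₀ hw₀) hh'0
    (hh'W w₀ hw₀) hcomm'
  have hweak := line_weak hf hHiso hhH hc0 hw₀c0 hh0 (hhW w₀ hw₀) hfgen hk₁ hst
  -- the centre
  have hkw : ∀ k : F, f (k • w₀) (c 0) = 0 := fun k => by rw [hf.smul_left, hw₀c0, mul_zero]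
  have hZ : ∀ (δ : F) (z : Matrix.GeneralLinearGroup (Fin n) F), σ δ = -δ →
      IsE f z (c 0) 0 δ → z ∈ H := by
    intro δ z hδ hz
    obtain ⟨μ, hμ⟩ := skew_surj hf δ hδ
    obtain ⟨γ₁, t₁, ht₁, ht₁H⟩ := hweak μ
    obtain ⟨γ₂, t₂, ht₂, ht₂H⟩ := hweak 1
    have h1 := isE_comm hf hc0 (hkw μ) (hkw 1) ht₁ ht₂
    have e : f (μ • w₀) ((1 : F) • w₀) - f ((1 : F) • w₀) (μ • w₀) = δ := by
      rw [hf.smul_left, hf.smul_left, f_smul_right hf, f_smul_right hf, hw₀1, map_one, ← hμ]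
      ring
    rw [e] at h1
    rw [isE_ext hz h1]
    exact H.mul_mem (H.mul_mem (H.mul_mem ht₁H ht₂H) (H.inv_mem ht₁H)) (H.inv_mem ht₂H)
  -- the strong line at `c 0`
  have hc0ne := fr.ne_zero hf (show 0 < 2 * m by omega)
  have hLS0 : LS f c H 0 w₀ := by
    intro k γ t htiso ht
    obtain ⟨γ₁, t₁, ht₁, ht₁H⟩ := hweak k
    have hv1 := isE_valid hf hc0 (hkw k) hc0ne htiso ht
    have hv2 := isE_valid hf hc0 (hkw k) hc0ne (hHiso t₁ ht₁H) ht₁
    have hδ : (γ - γ₁) + σ (γ - γ₁) = -f (0 : Fin n → F) 0 := by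
      rw [map_sub, f_zero_left hf]
      linear_combination hv1 - hv2
    obtain ⟨z, _, _, hz⟩ := exists_isE hf hc0 (f_zero_left hf _) hδ
    have hzH : z ∈ H := hZ _ z (by
      rw [f_zero_left hf, neg_zero] at hδ
      linear_combination hδ) hz
    have h3 := isE_mul hf hc0 (hkw k) (f_zero_left hf _) ht₁ hz
    have h4 : IsE f (t₁ * z) (c 0) (k • w₀) γ := by
      refine isE_congr h3 (by rw [add_zero]) ?_
      rw [f_zero_left hf]
      ring
    rw [isE_ext ht h4]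
    exact H.mul_mem ht₁H hzH
  have hxH : x ∈ H := by
    apply hLS0 1 γ₀ x hxiso
    rw [one_smul]
    exact hx
  have hnH : nn ∈ H := by
    have h1 := H.mul_mem (H.inv_mem hxH) hbH
    rw [inv_mul_cancel_left] at h1
    exact h1
  -- moving the strong line around the cycle
  have hLS_step : ∀ a, a < 2 * m → LS f c H a w₀ → LS f c H (cyc m a) w₀ := by
    intro a ha hLa k γ t htiso ht
    obtain ⟨ε, hε, e⟩ := hnn.1 a ha
    have h1 := isE_conj hniso.inv ht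
    rw [inv_mulVec_of_smul hε e, Matrix.mulVec_smul, hninvW w₀ hw₀, inv_inv] at h1
    have h2 := isE_smul_center hf h1
    rw [smul_smul] at h2
    have h3 := hLa _ _ _ ((hniso.inv.mul htiso).mul hniso) h2
    have : t = nn * (nn⁻¹ * t * nn) * nn⁻¹ := by group
    rw [this]
    exact H.mul_mem (H.mul_mem hnH h3) (H.inv_mem hnH)
  have hLSpos : ∀ j, j < 2 * m → LS f c H j w₀ := by
    intro j
    induction j with
    | zero => exact fun _ => hLS0
    | succ j ih =>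
      intro hj
      have h1 := hLS_step j (by omega) (ih (by omega))
      have e : cyc m j = j + 1 := by
        unfold cyc
        rw [if_pos hj]
      rwa [e] at h1
  -- the second line
  have hLS2 : ∀ j, j < 2 * m → LS f c H j ((g₀ : Matrix (Fin n) (Fin n) F) *ᵥ w₀) := by
    intro j hj k γ t htiso ht
    have h1 := isE_conj hg₀iso.inv ht
    have e1 : ((g₀⁻¹ : Matrix.GeneralLinearGroup (Fin n) F) : Matrix (Fin n) (Fin n) F) *ᵥ c j
        = c j := by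
      conv_lhs => rw [← hg₀c j hj]
      rw [Cfsg.Agent.S5643.inv_mv]
    rw [e1, Matrix.mulVec_smul, Cfsg.Agent.S5643.inv_mv, inv_inv] at h1
    have h3 := hLSpos j hj _ _ _ ((hg₀iso.inv.mul htiso).mul hg₀iso) h1
    have : t = g₀ * (g₀⁻¹ * t * g₀) * g₀⁻¹ := by group
    rw [this]
    exact H.mul_mem (H.mul_mem hg₀H h3) (H.inv_mem hg₀H)
  have hg₀w : (g₀ : Matrix (Fin n) (Fin n) F) *ᵥ w₀ ∈ Wp f m c := by
    intro a ha
    have := hg₀iso w₀ (c a)
    rw [hg₀c a ha, hw₀ a ha] at this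
    exact this
  -- the full `Wp` root groups
  have hFS : ∀ j, j < 2 * m → FS f σ m c H j := by
    intro j hj w hw γ t hγ ht
    have hcj := fr.iso j hj
    obtain ⟨α, β, hαβ⟩ := hWspan w hw
    have hwj : f w (c j) = 0 := hw j hj
    obtain ⟨t', _, ht'iso, ht'⟩ := exists_isE hf hcj hwj hγ
    have htt' : t = t' := isE_ext ht ht'
    have htiso : Iso f t := by rw [htt']; exact ht'iso
    have hαw : f (α • w₀) (c j) = 0 := by rw [hf.smul_left, hw₀ j hj, mul_zero]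
    have hfix : σ (-f (α • w₀) (α • w₀)) = -f (α • w₀) (α • w₀) := by
      rw [map_neg, f_self_fixed hf]
    obtain ⟨γ₁, hγ₁⟩ := trace_surj hf _ hfix
    obtain ⟨t₁, _, ht₁iso, ht₁⟩ := exists_isE hf hcj hαw hγ₁
    have ht₁H : t₁ ∈ H := hLSpos j hj α γ₁ t₁ ht₁iso ht₁
    have hi := isE_inv hf hcj hαw ht₁
    have hnαw : f (-(α • w₀)) (c j) = 0 := by rw [f_neg_left hf, hαw, neg_zero]
    have h2 := isE_mul hf hcj hnαw hwj hi ht
    have h2' : IsE f (t₁⁻¹ * t) (c j) (β • ((g₀ : Matrix (Fin n) (Fin n) F) *ᵥ w₀))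
        (-γ₁ - f (α • w₀) (α • w₀) + γ - f w (-(α • w₀))) := by
      refine isE_congr h2 ?_ rfl
      rw [hαβ]
      module
    have h3 := hLS2 j hj _ _ _ (ht₁iso.inv.mul htiso) h2'
    have : t = t₁ * (t₁⁻¹ * t) := by group
    rw [this]
    exact H.mul_mem ht₁H h3
  -- the short root groups between different pairs
  have hFL : ∀ a b, a < 2 * m → b < 2 * m → b ≠ a → b ≠ pr m a → FL f c H a b := by
    intro a b ha hb hba hbpa k t ht
    have hca := fr.iso a ha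
    have hcb := fr.iso b hb
    have hab : f (c a) (c b) = 0 := by
      apply fr.zero_of_ne hf ha hb
      intro h'
      apply hbpa
      rw [h', pr_pr hb]
    have hkwa : f (k • w₀) (c a) = 0 := by rw [hf.smul_left, hw₀ a ha, mul_zero]
    have hkwb : f (k • w₀) (c b) = 0 := by rw [hf.smul_left, hw₀ b hb, mul_zero]
    have hfixA : σ (-f (k • w₀) (k • w₀)) = -f (k • w₀) (k • w₀) := by
      rw [map_neg, f_self_fixed hf]
    obtain ⟨γA, hγA⟩ := trace_surj hf _ hfixA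
    obtain ⟨A, _, hAiso, hA⟩ := exists_isE hf hca hkwa hγA
    obtain ⟨B, _, hBiso, hB⟩ := exists_isE hf hcb (hw₀ b hb) hγ₀
    have hAH : A ∈ H := hLSpos a ha k γA A hAiso hA
    have hBH : B ∈ H := hLSpos b hb 1 γ₀ B hBiso (by rw [one_smul]; exact hB)
    have h1 := isE_comm2 hf hcb hab hkwb (hw₀ a ha) (hw₀ b hb) hAiso hA hB
    have e : f (k • w₀) w₀ = k := by rw [hf.smul_left, hw₀1, mul_one]
    rw [e] at h1
    rw [isE_ext ht h1]
    exact H.mul_mem (H.mul_mem (H.mul_mem hAH hBH) (H.inv_mem hAH)) (H.inv_mem hBH)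
  -- the radicals
  have hrad : ∀ a₀, a₀ < 2 * m → FullE f σ H (c a₀) := by
    intro a₀ ha₀
    exact rad hf hHiso fr ha₀ (hFS a₀ ha₀) (fun b hb hb1 hb2 => hFL a₀ b ha₀ hb hb1 hb2)
  have h0m : f (c m) (c 0) ≠ 0 := by
    have := fr.pair' hf (show 0 < m by omega)
    rw [zero_add] at this
    rw [this]
    exact one_ne_zero
  have hall := oppGen hf hHiso (hrad 0 (by omega)) (hrad m (by omega)) h0m
  exact XS_gen' hgen H G hG hall

end Cfsg.Agent.Lib.Helper29.UG
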