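import Cfsg.Agent.Lib.Helper29.UG.UCore1

/-!
# Two generators for `SU_4`: a hyperbolic frame with two pairs and no complement
-/

set_option autoImplicit false

namespace Cfsg.Agent.Lib.Helper29.UG

open Matrix Cfsg.Agent.Lib.Helper28.UForm Cfsg.Agent.Lib.Helper28.UGen
  Cfsg.Agent.Lib.Helper28.UMax Cfsg.Agent.Lib.Helper28.UMax2 Cfsg.Agent.Lib.Helper28.UPair

variable {n : ℕ} {F : Type*} [Field F] {σ : F ≃+* F} {f : (Fin n → F) → (Fin n → F) → F}
variable {m : ℕ} {c : ℕ → Fin n → F}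

/-- eigenvalues of the conjugate of a diagonal element by a monomial one. -/
theorem mono_conj_eig {nn h : Matrix.GeneralLinearGroup (Fin n) F} {τ : ℕ → ℕ}
    (hnn : Mono f m c nn τ) {b : ℕ} (hb : b < 2 * m) {μ : F}
    (hμ : (h : Matrix (Fin n) (Fin n) F) *ᵥ c b = μ • c b) :
    ((nn * h * nn⁻¹ : Matrix.GeneralLinearGroup (Fin n) F) : Matrix (Fin n) (Fin n) F) *ᵥ c (τ b)
      = μ • c (τ b) := by
  obtain ⟨ε, hε, e⟩ := hnn.1 b hb
  rw [Cfsg.Agent.S5643.mul_mv, Cfsg.Agent.S5643.mul_mv, inv_mulVec_of_smul hε e,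
    Matrix.mulVec_smul, hμ, Matrix.mulVec_smul, Matrix.mulVec_smul, e, smul_smul, smul_smul]
  congr 1
  field_simp

/-- conjugating a short root group by a monomial element. -/
theorem FL_conj (hf : Cfsg.Geo.IsUnitaryForm σ f)
    {H : Subgroup (Matrix.GeneralLinearGroup (Fin n) F)}
    {nn : Matrix.GeneralLinearGroup (Fin n) F} {τ : ℕ → ℕ} (hnn : Mono f m c nn τ)
    (hnH : nn ∈ H) (hniso : Iso f nn) {a b : ℕ} (ha : a < 2 * m) (hb : b < 2 * m)
    (hFL : FL f c H a b) : FL f c H (τ a) (τ b) := by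
  intro k t ht
  obtain ⟨εa, hεa, ea⟩ := hnn.1 a ha
  obtain ⟨εb, hεb, eb⟩ := hnn.1 b hb
  have h1 := isE_conj hniso.inv ht
  rw [inv_mulVec_of_smul hεa ea, Matrix.mulVec_smul, inv_mulVec_of_smul hεb eb, inv_inv] at h1
  have h2 := isE_smul_center hf h1
  have h3 : IsE f (nn⁻¹ * t * nn) (c a) ((σ εa⁻¹ * k * εb⁻¹) • c b) 0 := by
    refine isE_congr h2 ?_ (by ring)
    module
  have h4 := hFL _ _ h3
  have : t = nn * (nn⁻¹ * t * nn) * nn⁻¹ := by group
  rw [this]
  exact H.mul_mem (H.mul_mem hnH h4) (H.inv_mem hnH)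

theorem FL_symm (hf : Cfsg.Geo.IsUnitaryForm σ f)
    {H : Subgroup (Matrix.GeneralLinearGroup (Fin n) F)} {a b : ℕ}
    (hFL : FL f c H a b) : FL f c H b a := by
  intro k t ht
  exact hFL _ t (isE_symm hf ht)

/-- **Core theorem for `SU_4`.** -/
theorem core3 [Fintype F] {q : ℕ} (hF : Fintype.card F = q ^ 2) (hq : 2 ≤ q)
    (hσ : ∀ x, σ x = x ^ q) (hf : Cfsg.Geo.IsUnitaryForm σ f)
    {G : Subgroup (Matrix.GeneralLinearGroup (Fin n) F)} (hG : IsSUGroup f G)
    (hgen : ∀ g : Matrix.GeneralLinearGroup (Fin n) F,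
      (∀ x y, f ((g : Matrix (Fin n) (Fin n) F) *ᵥ x) ((g : Matrix (Fin n) (Fin n) F) *ᵥ y) = f x y) →
      g ∈ Cfsg.Geo.specialLinear (Fin n) F → g ∈ Subgroup.closure (UT f σ))
    (fr : UFrame f 2 c) (hW : ∀ w ∈ Wp f 2 c, w = 0) :
    ∃ a ∈ G, ∃ b ∈ G, Subgroup.closure ({a, b} : Set (Matrix.GeneralLinearGroup (Fin n) F)) = G := by
  classical
  -- a primitive element
  obtain ⟨κu, hκu⟩ := IsCyclic.exists_generator (α := Fˣ)
  have hord : orderOf κu = q ^ 2 - 1 := by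
    rw [orderOf_eq_card_of_forall_mem_zpowers hκu, Nat.card_eq_fintype_card, Fintype.card_units,
      hF]
  obtain ⟨κ, hκdef⟩ : ∃ κ : F, κ = (κu : F) := ⟨_, rfl⟩
  have hκ0 : κ ≠ 0 := by rw [hκdef]; exact κu.ne_zero
  have hpow1 : ∀ j : ℕ, κ ^ j = 1 → (q ^ 2 - 1) ∣ j := by
    intro j hj
    rw [← hord]
    apply orderOf_dvd_of_pow_eq_one
    apply Units.ext
    rw [Units.val_pow_eq_pow_val, Units.val_one, ← hκdef, hj]
  have hq2 : 2 * q ≤ q ^ 2 := by nlinarith
  have hσκ : σ κ = κ ^ q := hσ κ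
  have hσκ0 : σ κ ≠ 0 := fun h => hκ0 ((map_eq_zero σ).1 h)
  -- the torus element
  have hD : HQuad f (c 0) (c 2) (c 1) (c 3) :=
    { pp := fr.iso _ (by omega)
      p'p' := fr.iso _ (by omega)
      rr := fr.iso _ (by omega)
      r'r' := fr.iso _ (by omega)
      pp' := fr.pair 0 (by omega)
      rr' := fr.pair 1 (by omega)
      pr := fr.zero_of_ne hf (by omega) (by omega) (by unfold pr; split_ifs <;> omega)
      pr' := fr.zero_of_ne hf (by omega) (by omega) (by unfold pr; split_ifs <;> omega)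
      p'r := fr.zero_of_ne hf (by omega) (by omega) (by unfold pr; split_ifs <;> omega)
      p'r' := fr.zero_of_ne hf (by omega) (by omega) (by unfold pr; split_ifs <;> omega) }
  obtain ⟨h, hhG, hh0, hh1, hh2, hh3, _⟩ := H_exists hf hG hD κ hκ0
  -- the Coxeter element
  obtain ⟨nn, hnG, hnn⟩ := cox_exists hf hG fr (by omega : 1 ≤ 2)
  -- the short root element
  have hc0 : f (c 0) (c 0) = 0 := fr.iso 0 (by omega)
  have hc1 : f (c 1) (c 1) = 0 := fr.iso 1 (by omega)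
  have hc10 : f (c 1) (c 0) = 0 :=
    fr.zero_of_ne hf (by omega) (by omega) (by unfold pr; split_ifs <;> omega)
  have hγ0 : (0 : F) + σ 0 = -f (c 1) (c 1) := by rw [hc1, map_zero]; ring
  obtain ⟨x, hxS, hxiso, hx⟩ := exists_isE hf hc0 hc10 hγ0
  have hxG : x ∈ G := (hG x).2 ⟨hxiso, hxS⟩
  refine ⟨h, hhG, x * nn, G.mul_mem hxG hnG, ?_⟩
  have hHG : Subgroup.closure ({h, x * nn} : Set (Matrix.GeneralLinearGroup (Fin n) F)) ≤ G := by
    rw [Subgroup.closure_le]
    rintro y (rfl | rfl)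
    · exact hhG
    · exact G.mul_mem hxG hnG
  refine le_antisymm hHG ?_
  generalize hH : Subgroup.closure ({h, x * nn} : Set (Matrix.GeneralLinearGroup (Fin n) F)) = H
    at hHG ⊢
  have hhH : h ∈ H := by
    rw [← hH]
    exact Subgroup.subset_closure (Set.mem_insert _ _)
  have hbH : x * nn ∈ H := by
    rw [← hH]
    exact Subgroup.subset_closure (Set.mem_insert_of_mem _ rfl)
  have hHiso : ∀ g ∈ H, Iso f g := fun g hg => hG.iso (hHG hg)
  have hniso : Iso f nn := hG.iso hnG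
  have hhiso : Iso f h := hG.iso hhG
  -- cyc
  have cyc0 : cyc 2 0 = 1 := by unfold cyc; rw [if_pos (by omega)]
  have cyc1 : cyc 2 1 = 2 := by unfold cyc; rw [if_pos (by omega)]
  have cyc2 : cyc 2 2 = 3 := by unfold cyc; rw [if_pos (by omega)]
  have cyc3 : cyc 2 3 = 0 := by unfold cyc; rw [if_neg (by omega)]
  have hdiag : ∀ a, a < 2 * 2 → ∃ μ : F, (h : Matrix (Fin n) (Fin n) F) *ᵥ c a = μ • c a := by
    intro a ha
    have : a = 0 ∨ a = 1 ∨ a = 2 ∨ a = 3 := by omega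
    rcases this with rfl | rfl | rfl | rfl
    · exact ⟨_, hh0⟩
    · exact ⟨_, hh1⟩
    · exact ⟨_, hh2⟩
    · exact ⟨_, hh3⟩
  have hdiag' : ∀ a, a < 2 * 2 → ∃ μ : F,
      ((nn * h * nn⁻¹ : Matrix.GeneralLinearGroup (Fin n) F) : Matrix (Fin n) (Fin n) F) *ᵥ c a
        = μ • c a := by
    intro a ha
    have : a = 0 ∨ a = 1 ∨ a = 2 ∨ a = 3 := by omega
    rcases this with rfl | rfl | rfl | rfl
    · have := mono_conj_eig hnn (by omega : 3 < 2 * 2) hh3
      rw [cyc3] at this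
      exact ⟨_, this⟩
    · have := mono_conj_eig hnn (by omega : 0 < 2 * 2) hh0
      rw [cyc0] at this
      exact ⟨_, this⟩
    · have := mono_conj_eig hnn (by omega : 1 < 2 * 2) hh1
      rw [cyc1] at this
      exact ⟨_, this⟩
    · have := mono_conj_eig hnn (by omega : 2 < 2 * 2) hh2
      rw [cyc2] at this
      exact ⟨_, this⟩
  have hh'0 : ((nn * h * nn⁻¹ : Matrix.GeneralLinearGroup (Fin n) F) :
      Matrix (Fin n) (Fin n) F) *ᵥ c 0 = (σ κ)⁻¹ • c 0 := by
    have := mono_conj_eig hnn (by omega : 3 < 2 * 2) hh3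
    rwa [cyc3] at this
  have hh'1 : ((nn * h * nn⁻¹ : Matrix.GeneralLinearGroup (Fin n) F) :
      Matrix (Fin n) (Fin n) F) *ᵥ c 1 = σ κ • c 1 := by
    have := mono_conj_eig hnn (by omega : 0 < 2 * 2) hh0
    rwa [cyc0] at this
  have hcomm' : Commute h (nn * h * nn⁻¹) := by
    show h * (nn * h * nn⁻¹) = (nn * h * nn⁻¹) * h
    apply fr.ext_gl hf
    · intro a ha
      obtain ⟨μa, hμa⟩ := hdiag a ha
      obtain ⟨μa', hμa'⟩ := hdiag' a ha
      rw [Cfsg.Agent.S5643.mul_mv, Cfsg.Agent.S5643.mul_mv (nn * h * nn⁻¹), hμa', hμa,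
        Matrix.mulVec_smul, Matrix.mulVec_smul, hμa, hμa', smul_smul, smul_smul, mul_comm]
    · intro w hw
      rw [hW w hw, Matrix.mulVec_zero, Matrix.mulVec_zero]
  -- numerical facts
  have hκ2 : κ ^ 2 ≠ 1 := by
    intro h1
    have := Nat.le_of_dvd (by omega) (hpow1 2 h1)
    omega
  have hκσ : σ κ ≠ κ := by
    intro h1
    rw [hσκ] at h1
    have h2 : κ ^ (q - 1) = 1 := by
      have : κ ^ (q - 1) * κ = 1 * κ := by
        rw [← pow_succ, Nat.sub_add_cancel (by omega), h1, one_mul]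
      exact mul_right_cancel₀ hκ0 this
    have := Nat.le_of_dvd (by omega) (hpow1 _ h2)
    omega
  have hk₁ : (σ (σ κ) * κ - 1) * (1 - σ ((σ κ)⁻¹) * σ κ) ≠ 0 := by
    rw [hf.involutive, map_inv₀, hf.involutive]
    apply mul_ne_zero
    · intro h1
      apply hκ2
      linear_combination h1
    · intro h1
      apply hκσ
      field_simp at h1
      linear_combination -h1
  have hpowq' : ∀ y : F, y ≠ 0 → y ^ (q ^ 2 - 1) = 1 := by
    intro y hy
    rw [← hF]
    exact FiniteField.pow_card_sub_one_eq_one y hy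
  have hfgen : FGen (σ (σ κ) * κ) := by
    rw [hf.involutive, ← pow_two]
    apply fgen_of_order hF (pow_ne_zero 2 hκ0)
    have hN : q ^ 2 - 1 + 1 = q ^ 2 := Nat.sub_add_cancel (by omega)
    have hpos : 0 < orderOf (κ ^ 2) := by
      apply orderOf_pos_iff.2
      rw [isOfFinOrder_iff_pow_eq_one]
      exact ⟨q ^ 2 - 1, by omega, hpowq' _ (pow_ne_zero 2 hκ0)⟩
    have h1 : (κ ^ 2) ^ orderOf (κ ^ 2) = 1 := pow_orderOf_eq_one _
    rw [← pow_mul] at h1
    have h2 := Nat.le_of_dvd (by omega) (hpow1 _ h1)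
    omega
  -- Steinberg's trick
  have hst := steinberg hf hHiso hhH hbH hniso hc0 hc10 hx hh0 hh1 hh'0 hh'1 hcomm'
  have hweak := line_weak hf hHiso hhH hc0 hc10 hh0 hh1 hfgen hk₁ hst
  -- pure root elements via `h ^ (q - 1)`
  have hkc : ∀ k : F, f (k • c 1) (c 0) = 0 := fun k => by rw [hf.smul_left, hc10, mul_zero]
  have hkcc : ∀ k k' : F, f (k • c 1) (k' • c 1) = 0 := fun k k' => by
    rw [hf.smul_left, f_smul_right hf, hc1, mul_zero, mul_zero]
  have hpowq : ∀ y : F, y ≠ 0 → y ^ (q ^ 2 - 1) = 1 := by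
    intro y hy
    rw [← hF]
    exact FiniteField.pow_card_sub_one_eq_one y hy
  have hnorm : (σ κ) ^ (q - 1) * σ ((σ κ) ^ (q - 1)) = 1 := by
    rw [hσ ((σ κ) ^ (q - 1)), ← pow_succ', ← pow_mul]
    have : (q - 1) * (q + 1) = q ^ 2 - 1 := by
      have h1 : 1 ≤ q := by omega
      obtain ⟨r, rfl⟩ : ∃ r, q = r + 1 := ⟨q - 1, by omega⟩
      simp only [Nat.add_sub_cancel]
      have : (r + 1) ^ 2 = r * (r + 1 + 1) + 1 := by ring
      rw [this, Nat.add_sub_cancel]
    rw [this]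
    exact hpowq _ hσκ0
  obtain ⟨ρ₀, hρ₀def⟩ : ∃ ρ₀, ρ₀ = σ ((σ κ) ^ (q - 1)) * κ ^ (q - 1) := ⟨_, rfl⟩
  have hρ₀ : ρ₀ = κ ^ (2 * (q - 1)) := by
    rw [hρ₀def, map_pow, hf.involutive]
    ring
  have hρ₀1 : ρ₀ - 1 ≠ 0 := by
    intro h1
    have h2 : κ ^ (2 * (q - 1)) = 1 := by rw [← hρ₀]; linear_combination h1
    have h3 := Nat.le_of_dvd (by omega) (hpow1 _ h2)
    have : 2 * (q - 1) + 2 = 2 * q := by omega
    omega
  have hFL01 : FL f c H 0 1 := by
    intro k t ht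
    obtain ⟨γ₁, t₁, ht₁, ht₁H⟩ := hweak (k / (ρ₀ - 1))
    have e0 := pow_mulVec_eig h hh0 (q - 1)
    have e1 := pow_mulVec_eig h hh1 (q - 1)
    have hpH : h ^ (q - 1) ∈ H := H.pow_mem hhH _
    have h1 := isE_conj_diag hf (hhiso.pow (q - 1)) e0 e1 ht₁
    have hi := isE_inv hf hc0 (hkc _) ht₁
    have hneg : f (-((k / (ρ₀ - 1)) • c 1)) (c 0) = 0 := by rw [f_neg_left hf, hkc, neg_zero]
    have h2 := isE_mul hf hc0 (hkc _) hneg h1 hi
    have h3 : IsE f (h ^ (q - 1) * t₁ * (h ^ (q - 1))⁻¹ * t₁⁻¹) (c 0) (k • c 1) 0 := by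
      refine isE_congr h2 ?_ ?_
      · rw [← hρ₀def]
        have : ρ₀ * (k / (ρ₀ - 1)) - k / (ρ₀ - 1) = k := by field_simp
        rw [← sub_eq_add_neg, ← sub_smul, this]
      · rw [hnorm, hkcc, f_neg_left hf, hkcc]
        ring
    rw [isE_ext ht h3]
    exact H.mul_mem (H.mul_mem (H.mul_mem hpH ht₁H) (H.inv_mem hpH)) (H.inv_mem ht₁H)
  have hxH : x ∈ H := by
    apply hFL01 1 x
    rw [one_smul]
    exact hx
  have hnH : nn ∈ H := by
    have h1 := H.mul_mem (H.inv_mem hxH) hbH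
    rw [inv_mul_cancel_left] at h1
    exact h1
  -- all short root groups
  have hFL12 : FL f c H 1 2 := by
    have := FL_conj hf hnn hnH hniso (by omega : 0 < 2 * 2) (by omega : 1 < 2 * 2) hFL01
    rwa [cyc0, cyc1] at this
  have hFL23 : FL f c H 2 3 := by
    have := FL_conj hf hnn hnH hniso (by omega : 1 < 2 * 2) (by omega : 2 < 2 * 2) hFL12
    rwa [cyc1, cyc2] at this
  have hFL30 : FL f c H 3 0 := by
    have := FL_conj hf hnn hnH hniso (by omega : 2 < 2 * 2) (by omega : 3 < 2 * 2) hFL23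
    rwa [cyc2, cyc3] at this
  have hFL03 := FL_symm hf hFL30
  have hFL21 := FL_symm hf hFL12
  -- the centres
  have hcentre : ∀ a b b' : ℕ, a < 4 → b < 4 → b' < 4 → f (c b) (c a) = 0 → f (c b') (c a) = 0 →
      f (c b) (c b') = 1 → FL f c H a b → FL f c H a b' →
      ∀ (δ : F) (z : Matrix.GeneralLinearGroup (Fin n) F), σ δ = -δ →
        IsE f z (c a) 0 δ → z ∈ H := by
    intro a b b' ha hb hb' hba hb'a hbb' hFLb hFLb' δ z hδ hz
    obtain ⟨μ, hμ⟩ := skew_surj hf δ hδ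
    have hca := fr.iso a (by omega)
    have hμb : f (μ • c b) (c a) = 0 := by rw [hf.smul_left, hba, mul_zero]
    have h1b' : f ((1 : F) • c b') (c a) = 0 := by rw [hf.smul_left, hb'a, mul_zero]
    have hγA : (0 : F) + σ 0 = -f (μ • c b) (μ • c b) := by
      rw [hf.smul_left, f_smul_right hf, fr.iso b (by omega), map_zero]
      ring
    have hγB : (0 : F) + σ 0 = -f ((1 : F) • c b') ((1 : F) • c b') := by
      rw [hf.smul_left, f_smul_right hf, fr.iso b' (by omega), map_zero]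
      ring
    obtain ⟨A, _, _, hA⟩ := exists_isE hf hca hμb hγA
    obtain ⟨B, _, _, hB⟩ := exists_isE hf hca h1b' hγB
    have hAH := hFLb μ A hA
    have hBH := hFLb' 1 B hB
    have h1 := isE_comm hf hca hμb h1b' hA hB
    have hb'b : f (c b') (c b) = 1 := by rw [hf.herm, hbb', map_one]
    have e : f (μ • c b) ((1 : F) • c b') - f ((1 : F) • c b') (μ • c b) = δ := by
      rw [hf.smul_left, hf.smul_left, f_smul_right hf, f_smul_right hf, hbb', hb'b, map_one, ← hμ]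
      ring
    rw [e] at h1
    rw [isE_ext hz h1]
    exact H.mul_mem (H.mul_mem (H.mul_mem hAH hBH) (H.inv_mem hAH)) (H.inv_mem hBH)
  have hc30 : f (c 3) (c 0) = 0 :=
    fr.zero_of_ne hf (by omega) (by omega) (by unfold pr; split_ifs <;> omega)
  have hc12 : f (c 1) (c 2) = 0 :=
    fr.zero_of_ne hf (by omega) (by omega) (by unfold pr; split_ifs <;> omega)
  have hc32 : f (c 3) (c 2) = 0 :=
    fr.zero_of_ne hf (by omega) (by omega) (by unfold pr; split_ifs <;> omega)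
  have hc13 : f (c 1) (c 3) = 1 := fr.pair 1 (by omega)
  have hZ0 := hcentre 0 1 3 (by omega) (by omega) (by omega) hc10 hc30 hc13 hFL01 hFL03
  have hZ2 := hcentre 2 1 3 (by omega) (by omega) (by omega) hc12 hc32 hc13 hFL21 hFL23
  have hFS0 : FS f σ 2 c H 0 := by
    intro w hw γ t hγ ht
    rw [hW w hw] at ht hγ
    apply hZ0 γ t _ ht
    rw [f_zero_left hf, neg_zero] at hγ
    linear_combination hγ
  have hFS2 : FS f σ 2 c H 2 := by
    intro w hw γ t hγ ht
    rw [hW w hw] at ht hγ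
    apply hZ2 γ t _ ht
    rw [f_zero_left hf, neg_zero] at hγ
    linear_combination hγ
  have hrad0 : FullE f σ H (c 0) := by
    apply rad hf hHiso fr (by omega) hFS0
    intro b hb hb0 hb2
    have hp : pr 2 0 = 2 := by unfold pr; rw [if_pos (by omega)]
    rw [hp] at hb2
    have : b = 1 ∨ b = 3 := by omega
    rcases this with rfl | rfl
    · exact hFL01
    · exact hFL03
  have hrad2 : FullE f σ H (c 2) := by
    apply rad hf hHiso fr (by omega) hFS2
    intro b hb hb0 hb2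
    have hp : pr 2 2 = 0 := by unfold pr; rw [if_neg (by omega)]
    rw [hp] at hb2
    have : b = 1 ∨ b = 3 := by omega
    rcases this with rfl | rfl
    · exact hFL21
    · exact hFL23
  have h02 : f (c 2) (c 0) ≠ 0 := by
    have := fr.pair' hf (show 0 < 2 by omega)
    rw [zero_add] at this
    rw [this]
    exact one_ne_zero
  have hall := oppGen hf hHiso hrad0 hrad2 h02
  exact XS_gen' hgen H G hG hall

end Cfsg.Agent.Lib.Helper29.UG
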