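import Cfsg.Agent.Lib.Helper28.UMax2
import Cfsg.Agent.Lib.Helper28.UPair

/-!
# Unitary Siegel elements `E(u, v, γ)` (abstract unitary form)

`E(u,v,γ) x = x + f(x,u) v - f(x,v) u + γ f(x,u) u` for `u` isotropic and `v ⟂ u`.
-/

set_option autoImplicit false

namespace Cfsg.Agent.Lib.Helper29.UG

open Matrix Cfsg.Agent.Lib.Helper28.UForm Cfsg.Agent.Lib.Helper28.UGen
  Cfsg.Agent.Lib.Helper28.UMax Cfsg.Agent.Lib.Helper28.UMax2

variable {n : ℕ} {F : Type*} [Field F] {σ : F ≃+* F} {f : (Fin n → F) → (Fin n → F) → F}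

/-- abbreviation: `g` is an isometry of `f`. -/
def Iso (f : (Fin n → F) → (Fin n → F) → F) (g : Matrix.GeneralLinearGroup (Fin n) F) : Prop :=
  ∀ x y, f ((g : Matrix (Fin n) (Fin n) F) *ᵥ x) ((g : Matrix (Fin n) (Fin n) F) *ᵥ y) = f x y

theorem Iso.mul {g h : Matrix.GeneralLinearGroup (Fin n) F} (hg : Iso f g) (hh : Iso f h) :
    Iso f (g * h) := by
  intro x y
  rw [Cfsg.Agent.S5643.mul_mv, Cfsg.Agent.S5643.mul_mv, hg, hh]

theorem Iso.one : Iso f (1 : Matrix.GeneralLinearGroup (Fin n) F) := by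
  intro x y
  rw [Units.val_one, Matrix.one_mulVec, Matrix.one_mulVec]

theorem Iso.inv {g : Matrix.GeneralLinearGroup (Fin n) F} (hg : Iso f g) : Iso f g⁻¹ := by
  intro x y
  have := hg (((g⁻¹ : Matrix.GeneralLinearGroup (Fin n) F) : Matrix (Fin n) (Fin n) F) *ᵥ x)
    (((g⁻¹ : Matrix.GeneralLinearGroup (Fin n) F) : Matrix (Fin n) (Fin n) F) *ᵥ y)
  rw [Cfsg.Agent.S5643.inv_mv', Cfsg.Agent.S5643.inv_mv'] at this
  exact this.symm

theorem Iso.pow {g : Matrix.GeneralLinearGroup (Fin n) F} (hg : Iso f g) (k : ℕ) :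
    Iso f (g ^ k) := by
  induction k with
  | zero => rw [pow_zero]; exact Iso.one
  | succ k ih => rw [pow_succ]; exact ih.mul hg

/-- moving `g⁻¹` across the form. -/
theorem Iso.inv_left {g : Matrix.GeneralLinearGroup (Fin n) F} (hg : Iso f g) (x y : Fin n → F) :
    f (((g⁻¹ : Matrix.GeneralLinearGroup (Fin n) F) : Matrix (Fin n) (Fin n) F) *ᵥ x) y =
      f x ((g : Matrix (Fin n) (Fin n) F) *ᵥ y) := by
  have := hg (((g⁻¹ : Matrix.GeneralLinearGroup (Fin n) F) : Matrix (Fin n) (Fin n) F) *ᵥ x) y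
  rw [Cfsg.Agent.S5643.inv_mv'] at this
  exact this.symm

theorem gl_ext (g1 g2 : Matrix.GeneralLinearGroup (Fin n) F)
    (h : ∀ x, (g1 : Matrix (Fin n) (Fin n) F) *ᵥ x = (g2 : Matrix (Fin n) (Fin n) F) *ᵥ x) :
    g1 = g2 :=
  Units.ext (Matrix.ext_iff_mulVec.mpr h)

/-- `t` is the Siegel element `E(u, v, γ)`. -/
def IsE (f : (Fin n → F) → (Fin n → F) → F) (t : Matrix.GeneralLinearGroup (Fin n) F)
    (u v : Fin n → F) (γ : F) : Prop :=
  ∀ x, (t : Matrix (Fin n) (Fin n) F) *ᵥ x = x + f x u • v - f x v • u + (γ * f x u) • u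

theorem isE_ext {t t' : Matrix.GeneralLinearGroup (Fin n) F} {u v : Fin n → F} {γ : F}
    (h : IsE f t u v γ) (h' : IsE f t' u v γ) : t = t' :=
  gl_ext _ _ (fun x => by rw [h x, h' x])

theorem isE_congr {t : Matrix.GeneralLinearGroup (Fin n) F} {u v v' : Fin n → F} {γ γ' : F}
    (h : IsE f t u v γ) (hv : v = v') (hγ : γ = γ') : IsE f t u v' γ' := by
  subst hv; subst hγ; exact h

/-- existence (in `SL`, isometry) of Siegel elements. -/
theorem exists_isE (hf : Cfsg.Geo.IsUnitaryForm σ f) {u v : Fin n → F} (hu : f u u = 0)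
    (hvu : f v u = 0) {γ : F} (hγ : γ + σ γ = -f v v) :
    ∃ t : Matrix.GeneralLinearGroup (Fin n) F, t ∈ Cfsg.Geo.specialLinear (Fin n) F ∧
      Iso f t ∧ IsE f t u v γ := by
  obtain ⟨g, hgS, hg, hgiso⟩ := siegel hf u v hu hvu γ hγ
  exact ⟨g, hgS, hgiso, hg⟩

theorem isE_one (hf : Cfsg.Geo.IsUnitaryForm σ f) (u : Fin n → F) :
    IsE f (1 : Matrix.GeneralLinearGroup (Fin n) F) u 0 0 := by
  intro x
  rw [Units.val_one, Matrix.one_mulVec, f_zero_right hf]
  module

theorem isE_mul (hf : Cfsg.Geo.IsUnitaryForm σ f)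
    {t t' : Matrix.GeneralLinearGroup (Fin n) F} {u v v' : Fin n → F} {γ γ' : F}
    (hu : f u u = 0) (hvu : f v u = 0) (hv'u : f v' u = 0)
    (h : IsE f t u v γ) (h' : IsE f t' u v' γ') :
    IsE f (t * t') u (v + v') (γ + γ' - f v' v) := by
  intro x
  have huv : f u v = 0 := f_swap_zero hf hvu
  rw [Cfsg.Agent.S5643.mul_mv, h' x, h]
  simp only [hf.add_left, f_sub_left hf, hf.smul_left, f_add_right hf, hu, hv'u, huv,
    mul_zero, add_zero, sub_zero]
  module

theorem isE_inv (hf : Cfsg.Geo.IsUnitaryForm σ f)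
    {t : Matrix.GeneralLinearGroup (Fin n) F} {u v : Fin n → F} {γ : F}
    (hu : f u u = 0) (hvu : f v u = 0) (h : IsE f t u v γ) :
    IsE f t⁻¹ u (-v) (-γ - f v v) := by
  intro x
  have huv : f u v = 0 := f_swap_zero hf hvu
  have key : (t : Matrix (Fin n) (Fin n) F) *ᵥ
      (x + f x u • (-v) - f x (-v) • u + ((-γ - f v v) * f x u) • u) = x := by
    rw [h]
    simp only [hf.add_left, f_sub_left hf, hf.smul_left, f_neg_right hf, f_neg_left hf, hu, hvu,
      huv, mul_zero, add_zero, sub_zero, neg_zero]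
    module
  conv_lhs => rw [← key]
  rw [Cfsg.Agent.S5643.inv_mv]

theorem isE_conj {t g : Matrix.GeneralLinearGroup (Fin n) F} {u v : Fin n → F} {γ : F}
    (hg : Iso f g) (h : IsE f t u v γ) :
    IsE f (g * t * g⁻¹) ((g : Matrix (Fin n) (Fin n) F) *ᵥ u)
      ((g : Matrix (Fin n) (Fin n) F) *ᵥ v) γ := by
  intro x
  rw [Cfsg.Agent.S5643.mul_mv, Cfsg.Agent.S5643.mul_mv, h, Matrix.mulVec_add, Matrix.mulVec_sub,
    Matrix.mulVec_add, Matrix.mulVec_smul, Matrix.mulVec_smul, Matrix.mulVec_smul,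
    Cfsg.Agent.S5643.inv_mv', hg.inv_left, hg.inv_left]

theorem isE_smul_center (hf : Cfsg.Geo.IsUnitaryForm σ f)
    {t : Matrix.GeneralLinearGroup (Fin n) F} {u v : Fin n → F} {γ a : F}
    (h : IsE f t (a • u) v γ) : IsE f t u (σ a • v) (a * σ a * γ) := by
  intro x
  rw [h x, f_smul_right hf, f_smul_right hf, hf.involutive]
  module

theorem isE_smul_center' (hf : Cfsg.Geo.IsUnitaryForm σ f)
    {t : Matrix.GeneralLinearGroup (Fin n) F} {u v : Fin n → F} {γ a : F}
    (h : IsE f t u (σ a • v) (a * σ a * γ)) : IsE f t (a • u) v γ := by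
  intro x
  rw [h x, f_smul_right hf, f_smul_right hf, hf.involutive]
  module

/-- adding a multiple of the centre to `v` only changes the parameter. -/
theorem isE_add_center (hf : Cfsg.Geo.IsUnitaryForm σ f)
    {t : Matrix.GeneralLinearGroup (Fin n) F} {u v : Fin n → F} {γ k : F}
    (h : IsE f t u (v + k • u) γ) : IsE f t u v (γ + k - σ k) := by
  intro x
  rw [h x, f_add_right hf, f_smul_right hf]
  module

theorem isE_add_center' (hf : Cfsg.Geo.IsUnitaryForm σ f)
    {t : Matrix.GeneralLinearGroup (Fin n) F} {u v : Fin n → F} {γ k : F}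
    (h : IsE f t u v (γ + k - σ k)) : IsE f t u (v + k • u) γ := by
  intro x
  rw [h x, f_add_right hf, f_smul_right hf]
  module

/-- symmetry of the short root elements. -/
theorem isE_symm (hf : Cfsg.Geo.IsUnitaryForm σ f)
    {t : Matrix.GeneralLinearGroup (Fin n) F} {u v : Fin n → F} {k : F}
    (h : IsE f t u (k • v) 0) : IsE f t v ((-σ k) • u) 0 := by
  intro x
  rw [h x, f_smul_right hf, f_smul_right hf, map_neg, hf.involutive]
  module

/-- validity of the parameter of a Siegel element which is an isometry. -/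
theorem isE_valid (hf : Cfsg.Geo.IsUnitaryForm σ f)
    {t : Matrix.GeneralLinearGroup (Fin n) F} {u v : Fin n → F} {γ : F}
    (hu : f u u = 0) (hvu : f v u = 0) (hu0 : u ≠ 0) (ht : Iso f t) (h : IsE f t u v γ) :
    γ + σ γ = -f v v := by
  have huv : f u v = 0 := f_swap_zero hf hvu
  obtain ⟨⟨x₀, hx₀⟩, _⟩ := hf.nondegenerate u hu0
  obtain ⟨x, hx⟩ : ∃ x, f x u = 1 := by
    refine ⟨(f x₀ u)⁻¹ • x₀, ?_⟩
    rw [hf.smul_left, inv_mul_cancel₀ hx₀]
  have hux : f u x = 1 := by rw [hf.herm, hx, map_one]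
  have h1 := ht x x
  rw [h x, hx] at h1
  have e1 : f v x = σ (f x v) := hf.herm v x
  simp only [hf.add_left, f_sub_left hf, hf.smul_left, f_add_right hf, f_sub_right hf,
    f_smul_right hf, hu, hvu, huv, hx, hux, e1, mul_zero, add_zero, sub_zero, mul_one,
    one_mul, map_one] at h1
  linear_combination h1

/-- commutator of two Siegel elements with the same centre. -/
theorem isE_comm (hf : Cfsg.Geo.IsUnitaryForm σ f)
    {t t' : Matrix.GeneralLinearGroup (Fin n) F} {u v v' : Fin n → F} {γ γ' : F}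
    (hu : f u u = 0) (hvu : f v u = 0) (hv'u : f v' u = 0)
    (h : IsE f t u v γ) (h' : IsE f t' u v' γ') :
    IsE f (t * t' * t⁻¹ * t'⁻¹) u 0 (f v v' - f v' v) := by
  have h1 := isE_mul hf hu hvu hv'u h h'
  have hi := isE_inv hf hu hvu h
  have hi' := isE_inv hf hu hv'u h'
  have hnv : f (-v) u = 0 := by rw [f_neg_left hf, hvu, neg_zero]
  have hnv' : f (-v') u = 0 := by rw [f_neg_left hf, hv'u, neg_zero]
  have hvv' : f (v + v') u = 0 := by rw [hf.add_left, hvu, hv'u, add_zero]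
  have h2 := isE_mul hf hu hvv' hnv h1 hi
  have hvv'' : f (v + v' + -v) u = 0 := by rw [hf.add_left, hvv', hnv, add_zero]
  have h3 := isE_mul hf hu hvv'' hnv' h2 hi'
  refine isE_congr h3 (by abel) ?_
  simp only [f_neg_left hf, f_add_right hf, f_neg_right hf]
  ring

/-- commutator of two Siegel elements with orthogonal centres. -/
theorem isE_comm2 (hf : Cfsg.Geo.IsUnitaryForm σ f)
    {t t' : Matrix.GeneralLinearGroup (Fin n) F} {u u' v v' : Fin n → F} {γ γ' : F}
    (hu' : f u' u' = 0) (huu' : f u u' = 0)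
    (hvu' : f v u' = 0) (hv'u : f v' u = 0) (hv'u' : f v' u' = 0)
    (ht : Iso f t) (h : IsE f t u v γ) (h' : IsE f t' u' v' γ') :
    IsE f (t * t' * t⁻¹ * t'⁻¹) u (f v v' • u') 0 := by
  have hu'u : f u' u = 0 := f_swap_zero hf huu'
  have hu'v : f u' v = 0 := f_swap_zero hf hvu'
  have h1 := isE_conj ht h'
  have e1 : (t : Matrix (Fin n) (Fin n) F) *ᵥ u' = u' := by
    rw [h u', hu'u, hu'v]
    module
  have e2 : (t : Matrix (Fin n) (Fin n) F) *ᵥ v' = v' + (-f v' v) • u := by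
    rw [h v', hv'u]
    module
  rw [e1, e2] at h1
  have hi' := isE_inv hf hu' hv'u' h'
  have hA : f (v' + (-f v' v) • u) u' = 0 := by
    rw [hf.add_left, hf.smul_left, hv'u', huu', mul_zero, add_zero]
  have hnv' : f (-v') u' = 0 := by rw [f_neg_left hf, hv'u', neg_zero]
  have h2 := isE_mul hf hu' hA hnv' h1 hi'
  have h3 : IsE f (t * t' * t⁻¹ * t'⁻¹) u' ((-f v' v) • u) 0 := by
    refine isE_congr h2 (by abel) ?_
    simp only [f_neg_left hf, f_add_right hf, f_smul_right hf, hv'u]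
    ring
  have h4 := isE_symm hf h3
  refine isE_congr h4 ?_ rfl
  rw [map_neg, neg_neg, ← hf.herm]

/-- powers of a central element. -/
theorem isE_pow_central (hf : Cfsg.Geo.IsUnitaryForm σ f)
    {t : Matrix.GeneralLinearGroup (Fin n) F} {u : Fin n → F} {γ : F}
    (hu : f u u = 0) (h : IsE f t u 0 γ) (k : ℕ) : IsE f (t ^ k) u 0 ((k : F) * γ) := by
  induction k with
  | zero =>
    rw [pow_zero, Nat.cast_zero, zero_mul]
    exact isE_one hf u
  | succ k ih =>
    rw [pow_succ]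
    have h0 : f (0 : Fin n → F) u = 0 := f_zero_left hf u
    have h1 := isE_mul hf hu h0 h0 ih h
    refine isE_congr h1 (by rw [add_zero]) ?_
    rw [f_zero_left hf, Nat.cast_succ]
    ring

/-- a central element is a unitary transvection. -/
theorem isE_central_iff {t : Matrix.GeneralLinearGroup (Fin n) F} {u : Fin n → F} {γ : F}
    (hf : Cfsg.Geo.IsUnitaryForm σ f) :
    IsE f t u 0 γ ↔ ∀ x, (t : Matrix (Fin n) (Fin n) F) *ᵥ x = x + (γ * f x u) • u := by
  constructor
  · intro h x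
    rw [h x, f_zero_right hf]
    module
  · intro h x
    rw [h x, f_zero_right hf]
    module

end Cfsg.Agent.Lib.Helper29.UG
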