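import Mathlib

/-!
# Additive generation of a finite field of order `q²` by the powers of one element
-/

set_option autoImplicit false

namespace Cfsg.Agent.Lib.Helper29.UG

variable {F : Type*} [Field F]

/-- every additive subgroup of `F` stable under multiplication by `ρ` is `0` or `F`. -/
def FGen (ρ : F) : Prop :=
  ∀ S : AddSubgroup F, (∀ s ∈ S, ρ * s ∈ S) → (∃ s ∈ S, s ≠ 0) → ∀ k : F, k ∈ S

theorem fgen_of_powers {ρ : F} (hρ : ∀ k : F, k ≠ 0 → ∃ j : ℕ, ρ ^ j = k) : FGen ρ := by
  intro S hS ⟨s, hsS, hs0⟩ k
  have hpow : ∀ j : ℕ, ρ ^ j * s ∈ S := by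
    intro j
    induction j with
    | zero => rw [pow_zero, one_mul]; exact hsS
    | succ j ih =>
      rw [pow_succ', mul_assoc]
      exact hS _ ih
  by_cases hk : k = 0
  · rw [hk]; exact S.zero_mem
  · obtain ⟨j, hj⟩ := hρ (k / s) (div_ne_zero hk hs0)
    have := hpow j
    rw [hj, div_mul_cancel₀ k hs0] at this
    exact this

theorem fgen_of_order [Fintype F] {q : ℕ} (hF : Fintype.card F = q ^ 2) {ρ : F} (hρ0 : ρ ≠ 0)
    (hord : q ≤ orderOf ρ) : FGen ρ := by
  classical
  obtain ⟨p, hp⟩ := CharP.exists F
  have := hp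
  have : Fact p.Prime := ⟨CharP.char_is_prime F p⟩
  let _ : Algebra (ZMod p) F := ZMod.algebra F p
  intro S hS ⟨s, hsS, hs0⟩ k
  -- polynomials in `ρ` preserve `S`
  have hpoly : ∀ P : Polynomial (ZMod p), ∀ s ∈ S, Polynomial.aeval ρ P * s ∈ S := by
    intro P
    induction P using Polynomial.induction_on with
    | C a =>
      intro s hs
      rw [Polynomial.aeval_C, ← Algebra.smul_def]
      have : a • s = a.val • s := by
        conv_lhs => rw [← ZMod.natCast_zmod_val a]
        exact Nat.cast_smul_eq_nsmul (ZMod p) a.val s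
      rw [this]
      exact S.nsmul_mem hs _
    | add P Q hP hQ =>
      intro s hs
      rw [map_add, add_mul]
      exact S.add_mem (hP s hs) (hQ s hs)
    | monomial j a ih =>
      intro s hs
      rw [pow_succ, ← mul_assoc, map_mul, Polynomial.aeval_X, mul_assoc]
      exact ih _ (hS s hs)
  -- the subfield generated by `ρ` is everything
  let L := IntermediateField.adjoin (ZMod p) {ρ}
  have hρL : ρ ∈ L := IntermediateField.mem_adjoin_simple_self (ZMod p) ρ
  have hcardL : 1 < Fintype.card L := Fintype.one_lt_card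
  have h1 : (⟨ρ, hρL⟩ : L) ^ (Fintype.card L - 1) = 1 :=
    FiniteField.pow_card_sub_one_eq_one _ (by
      intro h
      exact hρ0 (congrArg Subtype.val h))
  have h2 : ρ ^ (Fintype.card L - 1) = 1 := by
    have := congrArg Subtype.val h1
    simpa using this
  have h3 := Nat.le_of_dvd (by omega) (orderOf_dvd_of_pow_eq_one h2)
  have hqL : q < Fintype.card L := by omega
  have hcard : Fintype.card F = Fintype.card L ^ Module.finrank L F :=
    Module.card_eq_pow_finrank
  have hfr : Module.finrank L F = 1 := by
    have hq0 : 0 < q := by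
      rcases Nat.eq_zero_or_pos q with h | h
      · rw [h] at hF
        have : 1 < Fintype.card F := Fintype.one_lt_card
        omega
      · exact h
    rcases Nat.lt_or_ge (Module.finrank L F) 2 with h | h
    · have hpos : 0 < Module.finrank L F := Module.finrank_pos
      omega
    · exfalso
      have h4 : Fintype.card L ^ 2 ≤ Fintype.card L ^ Module.finrank L F :=
        Nat.pow_le_pow_right (by omega) h
      have h5 : q ^ 2 < Fintype.card L ^ 2 := Nat.pow_lt_pow_left hqL (by omega)
      omega
  have hLtop : L = ⊤ := by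
    have h5 : Module.finrank L F = 1 := hfr
    exact IntermediateField.finrank_eq_one_iff_eq_top.1 h5
  have hks : k / s ∈ L := by rw [hLtop]; exact IntermediateField.mem_top
  have hks' : k / s ∈ (IntermediateField.adjoin (ZMod p) {ρ}).toSubalgebra := hks
  rw [IntermediateField.adjoin_simple_toSubalgebra_of_isAlgebraic
    (Algebra.IsAlgebraic.isAlgebraic ρ), Algebra.adjoin_singleton_eq_range_aeval] at hks'
  obtain ⟨P', hP'⟩ := hks'
  have h6 := hpoly P' s hsS
  have h7 : Polynomial.aeval ρ P' = k / s := hP'
  rw [h7, div_mul_cancel₀ k hs0] at h6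
  exact h6

end Cfsg.Agent.Lib.Helper29.UG
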