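import Cfsg.Agent.Lib.Helper29.UG.UE

/-!
# Two opposite full Siegel groups generate `SU` (abstract unitary form)
-/

set_option autoImplicit false

namespace Cfsg.Agent.Lib.Helper29.UG

open Matrix Cfsg.Agent.Lib.Helper28.UForm Cfsg.Agent.Lib.Helper28.UGen
  Cfsg.Agent.Lib.Helper28.UMax Cfsg.Agent.Lib.Helper28.UMax2

variable {n : ℕ} {F : Type*} [Field F] {σ : F ≃+* F} {f : (Fin n → F) → (Fin n → F) → F}

/-- the full Siegel group at the isotropic vector `u` lies in `H`. -/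
def FullE (f : (Fin n → F) → (Fin n → F) → F) (σ : F ≃+* F)
    (H : Subgroup (Matrix.GeneralLinearGroup (Fin n) F)) (u : Fin n → F) : Prop :=
  f u u = 0 ∧ ∀ (v : Fin n → F) (γ : F) (t : Matrix.GeneralLinearGroup (Fin n) F),
    f v u = 0 → γ + σ γ = -f v v → IsE f t u v γ → t ∈ H

variable {H : Subgroup (Matrix.GeneralLinearGroup (Fin n) F)}

theorem FullE.conj (hf : Cfsg.Geo.IsUnitaryForm σ f) {u : Fin n → F} (hu : FullE f σ H u)
    {g : Matrix.GeneralLinearGroup (Fin n) F} (hgH : g ∈ H) (hg : Iso f g) :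
    FullE f σ H ((g : Matrix (Fin n) (Fin n) F) *ᵥ u) := by
  refine ⟨by rw [hg, hu.1], fun v γ t hv hγ ht => ?_⟩
  have hv₀ : f (((g⁻¹ : Matrix.GeneralLinearGroup (Fin n) F) : Matrix (Fin n) (Fin n) F) *ᵥ v) u
      = 0 := by rw [hg.inv_left, hv]
  have hγ₀ : γ + σ γ =
      -f (((g⁻¹ : Matrix.GeneralLinearGroup (Fin n) F) : Matrix (Fin n) (Fin n) F) *ᵥ v)
        (((g⁻¹ : Matrix.GeneralLinearGroup (Fin n) F) : Matrix (Fin n) (Fin n) F) *ᵥ v) := by
    rw [hg.inv, hγ]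
  obtain ⟨t₀, _, _, ht₀⟩ := exists_isE hf hu.1 hv₀ hγ₀
  have ht₀H := hu.2 _ _ t₀ hv₀ hγ₀ ht₀
  have h1 := isE_conj hg ht₀
  rw [Cfsg.Agent.S5643.inv_mv'] at h1
  rw [isE_ext ht h1]
  exact H.mul_mem (H.mul_mem hgH ht₀H) (H.inv_mem hgH)

theorem FullE.smul (hf : Cfsg.Geo.IsUnitaryForm σ f) {u : Fin n → F} (hu : FullE f σ H u)
    {a : F} (ha : a ≠ 0) : FullE f σ H (a • u) := by
  have hσa : σ a ≠ 0 := fun h => ha ((map_eq_zero σ).1 h)
  refine ⟨by rw [hf.smul_left, f_smul_right hf, hu.1, mul_zero, mul_zero], fun v γ t hv hγ ht => ?_⟩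
  have hvu : f v u = 0 := by
    rw [f_smul_right hf] at hv
    rcases mul_eq_zero.1 hv with h | h
    · exact absurd h hσa
    · exact h
  apply hu.2 (σ a • v) (a * σ a * γ) t
  · rw [hf.smul_left, hvu, mul_zero]
  · rw [hf.smul_left, f_smul_right hf, map_mul, map_mul, hf.involutive]
    linear_combination (a * σ a) * hγ
  · exact isE_smul_center hf ht

theorem FullE.mem_XS (hf : Cfsg.Geo.IsUnitaryForm σ f) {u : Fin n → F} (hu : FullE f σ H u) :
    u ∈ XS f σ H := by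
  refine ⟨hu.1, fun c hc t ht => ?_⟩
  apply hu.2 0 (σ c) t (f_zero_left hf u)
  · rw [hf.involutive, hc, f_zero_left hf]
    ring
  · rw [isE_central_iff hf]
    intro x
    rw [ht x, f_smul_right hf]

/-- the Siegel group at `u` moves `p` to `p'` when `f p u = f p' u = 1`. -/
theorem siegel_move (hf : Cfsg.Geo.IsUnitaryForm σ f) {u p p' : Fin n → F}
    (hp : f p p = 0) (hp' : f p' p' = 0) (hpu : f p u = 1) (hp'u : f p' u = 1) :
    f (p' - p) u = 0 ∧ f p p' + σ (f p p') = -f (p' - p) (p' - p) ∧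
      ∀ t : Matrix.GeneralLinearGroup (Fin n) F, IsE f t u (p' - p) (f p p') →
        (t : Matrix (Fin n) (Fin n) F) *ᵥ p = p' := by
  refine ⟨by rw [f_sub_left hf, hpu, hp'u, sub_self], ?_, fun t ht => ?_⟩
  · rw [f_sub_left hf, f_sub_right hf, f_sub_right hf, hp, hp', ← hf.herm p' p]
    ring
  · rw [ht p, hpu, f_sub_right hf, hp]
    module

/-- one step: from full Siegel groups at `u` and `u'` (non-orthogonal) to any isotropic `p`
not orthogonal to `u`. -/
theorem FullE.step (hf : Cfsg.Geo.IsUnitaryForm σ f) (hHiso : ∀ g ∈ H, Iso f g)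
    {u u' p : Fin n → F} (hu : FullE f σ H u) (hu' : FullE f σ H u') (huu' : f u' u ≠ 0)
    (hp : f p p = 0) (hpu : f p u ≠ 0) : FullE f σ H p := by
  have e1 : f ((f p u)⁻¹ • p) u = 1 := by rw [hf.smul_left, inv_mul_cancel₀ hpu]
  have e2 : f ((f u' u)⁻¹ • u') u = 1 := by rw [hf.smul_left, inv_mul_cancel₀ huu']
  have i1 : f ((f p u)⁻¹ • p) ((f p u)⁻¹ • p) = 0 := by
    rw [hf.smul_left, f_smul_right hf, hp, mul_zero, mul_zero]
  have i2 : f ((f u' u)⁻¹ • u') ((f u' u)⁻¹ • u') = 0 := by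
    rw [hf.smul_left, f_smul_right hf, hu'.1, mul_zero, mul_zero]
  obtain ⟨hv, hγ, hmove⟩ := siegel_move hf i2 i1 e2 e1
  obtain ⟨t, _, _, ht⟩ := exists_isE hf hu.1 hv hγ
  have htH := hu.2 _ _ t hv hγ ht
  have h1 := (hu'.smul hf (inv_ne_zero huu')).conj hf htH (hHiso t htH)
  rw [hmove t ht] at h1
  have h2 := h1.smul hf hpu
  rwa [smul_smul, mul_inv_cancel₀ hpu, one_smul] at h2

/-- **two opposite full Siegel groups**: every isotropic vector has its transvections in `H`. -/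
theorem oppGen (hf : Cfsg.Geo.IsUnitaryForm σ f) (hHiso : ∀ g ∈ H, Iso f g)
    {u u' : Fin n → F} (hu : FullE f σ H u) (hu' : FullE f σ H u') (huu' : f u' u ≠ 0)
    (y : Fin n → F) (hy : f y y = 0) : y ∈ XS f σ H := by
  have huu'2 : f u u' ≠ 0 := f_swap_ne hf huu'
  by_cases h1 : f y u ≠ 0
  · exact (hu.step hf hHiso hu' huu' hy h1).mem_XS hf
  by_cases h2 : f y u' ≠ 0
  · exact (hu'.step hf hHiso hu huu'2 hy h2).mem_XS hf
  push Not at h1 h2
  by_cases hy0 : y = 0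
  · refine ⟨hy, fun c _ t ht => ?_⟩
    have : t = 1 := gl_ext _ _ (fun x => by
      rw [ht x, hy0, smul_zero, add_zero, Units.val_one, Matrix.one_mulVec])
    rw [this]
    exact H.one_mem
  obtain ⟨⟨z, hz⟩, _⟩ := hf.nondegenerate y hy0
  have huy : f u y = 0 := f_swap_zero hf h1
  have hu'y : f u' y = 0 := f_swap_zero hf h2
  -- project `z` away from `u, u'`
  obtain ⟨z', hz'def⟩ : ∃ z', z' = z - (f z u' / f u u') • u - (f z u / f u' u) • u' := ⟨_, rfl⟩
  have hz'u : f z' u = 0 := by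
    rw [hz'def, f_sub_left hf, f_sub_left hf, hf.smul_left, hf.smul_left, hu.1]
    field_simp
    ring
  have hz'u' : f z' u' = 0 := by
    rw [hz'def, f_sub_left hf, f_sub_left hf, hf.smul_left, hf.smul_left, hu'.1]
    field_simp
    ring
  have hz'y : f z' y ≠ 0 := by
    rw [hz'def, f_sub_left hf, f_sub_left hf, hf.smul_left, hf.smul_left, huy, hu'y, mul_zero,
      mul_zero, sub_zero, sub_zero]
    exact hz
  have hfix : σ (-f z' z') = -f z' z' := by rw [map_neg, f_self_fixed hf]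
  obtain ⟨τ, hτ⟩ := trace_surj hf _ hfix
  obtain ⟨β, hβdef⟩ : ∃ β, β = τ / f u' u := ⟨_, rfl⟩
  obtain ⟨p, hpdef⟩ : ∃ p, p = z' + u + β • u' := ⟨_, rfl⟩
  have hβ : β * f u' u = τ := by rw [hβdef]; field_simp
  have huz' : f u z' = 0 := f_swap_zero hf hz'u
  have hu'z' : f u' z' = 0 := f_swap_zero hf hz'u'
  have hpp : f p p = 0 := by
    rw [hpdef]
    simp only [hf.add_left, f_add_right hf, hf.smul_left, f_smul_right hf, hu.1, hu'.1, hz'u,
      hz'u', huz', hu'z', mul_zero, add_zero, zero_add]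
    have e : f u u' = σ (f u' u) := hf.herm u u'
    have e2 : σ β * σ (f u' u) = σ τ := by rw [← map_mul, hβ]
    rw [e]
    linear_combination hτ + e2 + hβ
  have hpu' : f p u' ≠ 0 := by
    rw [hpdef, hf.add_left, hf.add_left, hf.smul_left, hz'u', hu'.1, mul_zero, add_zero, zero_add]
    exact huu'2
  have hyp : f y p ≠ 0 := by
    rw [hpdef, f_add_right hf, f_add_right hf, f_smul_right hf, h1, h2, mul_zero, add_zero,
      add_zero]
    exact f_swap_ne hf hz'y
  have hFp : FullE f σ H p := hu'.step hf hHiso hu huu'2 hpp hpu'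
  exact (hFp.step hf hHiso hu' (f_swap_ne hf hpu') hy hyp).mem_XS hf

end Cfsg.Agent.Lib.Helper29.UG
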