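import Cfsg.Agent.Lib.Helper29.UG.UE
import Cfsg.Agent.Lib.Helper29.UG.UField

/-!
# Steinberg's trick: from `h` and `x n` to a root group
-/

set_option autoImplicit false

namespace Cfsg.Agent.Lib.Helper29.UG

open Matrix Cfsg.Agent.Lib.Helper28.UForm Cfsg.Agent.Lib.Helper28.UGen
  Cfsg.Agent.Lib.Helper28.UMax Cfsg.Agent.Lib.Helper28.UMax2

variable {n : ℕ} {F : Type*} [Field F] {σ : F ≃+* F} {f : (Fin n → F) → (Fin n → F) → F}
variable {H : Subgroup (Matrix.GeneralLinearGroup (Fin n) F)}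

/-- conjugating a Siegel element by an isometry acting diagonally on `u` and `v`. -/
theorem isE_conj_diag (hf : Cfsg.Geo.IsUnitaryForm σ f)
    {t g : Matrix.GeneralLinearGroup (Fin n) F} {u v : Fin n → F} {γ k lam mu : F}
    (hg : Iso f g) (hgu : (g : Matrix (Fin n) (Fin n) F) *ᵥ u = lam • u)
    (hgv : (g : Matrix (Fin n) (Fin n) F) *ᵥ v = mu • v)
    (h : IsE f t u (k • v) γ) :
    IsE f (g * t * g⁻¹) u ((σ lam * mu * k) • v) (lam * σ lam * γ) := by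
  have h1 := isE_conj hg h
  rw [hgu, Matrix.mulVec_smul, hgv] at h1
  have h2 := isE_smul_center hf h1
  refine isE_congr h2 ?_ rfl
  module

/-- **Steinberg's trick.** -/
theorem steinberg (hf : Cfsg.Geo.IsUnitaryForm σ f) (hHiso : ∀ g ∈ H, Iso f g)
    {h nn x : Matrix.GeneralLinearGroup (Fin n) F} (hhH : h ∈ H) (hbH : x * nn ∈ H)
    (hn : Iso f nn) {u v : Fin n → F} {γ₀ : F} (hu : f u u = 0) (hvu : f v u = 0)
    (hx : IsE f x u v γ₀) {lam mu lam' mu' : F}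
    (hhu : (h : Matrix (Fin n) (Fin n) F) *ᵥ u = lam • u)
    (hhv : (h : Matrix (Fin n) (Fin n) F) *ᵥ v = mu • v)
    (hh'u : ((nn * h * nn⁻¹ : Matrix.GeneralLinearGroup (Fin n) F) :
      Matrix (Fin n) (Fin n) F) *ᵥ u = lam' • u)
    (hh'v : ((nn * h * nn⁻¹ : Matrix.GeneralLinearGroup (Fin n) F) :
      Matrix (Fin n) (Fin n) F) *ᵥ v = mu' • v)
    (hcomm : Commute h (nn * h * nn⁻¹)) :
    ∃ (γ : F) (t : Matrix.GeneralLinearGroup (Fin n) F),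
      IsE f t u (((σ lam * mu - 1) * (1 - σ lam' * mu')) • v) γ ∧ t ∈ H := by
  have hhiso : Iso f h := hHiso h hhH
  obtain ⟨h', hh'def⟩ : ∃ h', h' = nn * h * nn⁻¹ := ⟨_, rfl⟩
  rw [← hh'def] at hh'u hh'v hcomm
  have hh'iso : Iso f h' := by
    rw [hh'def]
    exact (hn.mul hhiso).mul hn.inv
  obtain ⟨c, hcdef⟩ : ∃ c, c = (x * nn) * h * (x * nn)⁻¹ := ⟨_, rfl⟩
  have hcH : c ∈ H := by
    rw [hcdef]
    exact H.mul_mem (H.mul_mem hbH hhH) (H.inv_mem hbH)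
  -- `z = c h'⁻¹ = x (h' x⁻¹ h'⁻¹)`
  have hz : c * h'⁻¹ = x * (h' * x⁻¹ * h'⁻¹) := by
    rw [hcdef, hh'def]
    group
  have hxi := isE_inv hf hu hvu hx
  have hxi' : IsE f x⁻¹ u ((-1 : F) • v) (-γ₀ - f v v) := by
    refine isE_congr hxi ?_ rfl
    module
  have h1 := isE_conj_diag hf hh'iso hh'u hh'v hxi'
  have hv1 : f ((σ lam' * mu' * -1) • v) u = 0 := by rw [hf.smul_left, hvu, mul_zero]
  have h2 := isE_mul hf hu hvu hv1 hx h1
  rw [← hz] at h2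
  have h2' : IsE f (c * h'⁻¹) u ((1 - σ lam' * mu') • v)
      (γ₀ + lam' * σ lam' * (-γ₀ - f v v) - f ((σ lam' * mu' * -1) • v) v) := by
    refine isE_congr h2 ?_ rfl
    module
  -- `w = h z h⁻¹ z⁻¹ = h c h⁻¹ c⁻¹`
  have hw : h * (c * h'⁻¹) * h⁻¹ * (c * h'⁻¹)⁻¹ = h * c * h⁻¹ * c⁻¹ := by
    have e1 : h'⁻¹ * h⁻¹ * h' = h⁻¹ := by
      have := hcomm.eq
      calc h'⁻¹ * h⁻¹ * h' = h'⁻¹ * h⁻¹ * h' * (h * h⁻¹) := by group
        _ = h'⁻¹ * h⁻¹ * (h' * h) * h⁻¹ := by group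
        _ = h'⁻¹ * h⁻¹ * (h * h') * h⁻¹ := by rw [this]
        _ = h⁻¹ := by group
    calc h * (c * h'⁻¹) * h⁻¹ * (c * h'⁻¹)⁻¹ = h * c * (h'⁻¹ * h⁻¹ * h') * c⁻¹ := by group
      _ = h * c * h⁻¹ * c⁻¹ := by rw [e1]
  have h3 := isE_conj_diag hf hhiso hhu hhv h2'
  have hv2 : f ((1 - σ lam' * mu') • v) u = 0 := by rw [hf.smul_left, hvu, mul_zero]
  have h4 := isE_inv hf hu hv2 h2'
  have hv3 : f ((σ lam * mu * (1 - σ lam' * mu')) • v) u = 0 := by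
    rw [hf.smul_left, hvu, mul_zero]
  have hv4 : f (-((1 - σ lam' * mu') • v)) u = 0 := by
    rw [f_neg_left hf, hv2, neg_zero]
  have h5 := isE_mul hf hu hv3 hv4 h3 h4
  rw [hw] at h5
  refine ⟨_, h * c * h⁻¹ * c⁻¹, isE_congr h5 ?_ rfl, ?_⟩
  · module
  · exact H.mul_mem (H.mul_mem (H.mul_mem hhH hcH) (H.inv_mem hhH)) (H.inv_mem hcH)

/-- closing up: `h` acts on the line `{E(u, k v, *)}` by `ρ = σ(λ) μ`; if `ρ` generates the
field additively, the whole line lies in `H` (weakly). -/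
theorem line_weak (hf : Cfsg.Geo.IsUnitaryForm σ f) (hHiso : ∀ g ∈ H, Iso f g)
    {h : Matrix.GeneralLinearGroup (Fin n) F} (hhH : h ∈ H) {u v : Fin n → F}
    (hu : f u u = 0) (hvu : f v u = 0) {lam mu : F}
    (hhu : (h : Matrix (Fin n) (Fin n) F) *ᵥ u = lam • u)
    (hhv : (h : Matrix (Fin n) (Fin n) F) *ᵥ v = mu • v)
    (hgen : FGen (σ lam * mu)) {k₁ : F} (hk₁ : k₁ ≠ 0)
    (h1 : ∃ (γ : F) (t : Matrix.GeneralLinearGroup (Fin n) F), IsE f t u (k₁ • v) γ ∧ t ∈ H) :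
    ∀ k : F, ∃ (γ : F) (t : Matrix.GeneralLinearGroup (Fin n) F),
      IsE f t u (k • v) γ ∧ t ∈ H := by
  have hkv : ∀ k : F, f (k • v) u = 0 := fun k => by rw [hf.smul_left, hvu, mul_zero]
  let S : AddSubgroup F :=
    { carrier := {k | ∃ (γ : F) (t : Matrix.GeneralLinearGroup (Fin n) F),
        IsE f t u (k • v) γ ∧ t ∈ H}
      zero_mem' := ⟨0, 1, by rw [zero_smul]; exact isE_one hf u, H.one_mem⟩
      add_mem' := by
        rintro a b ⟨γa, ta, hta, htaH⟩ ⟨γb, tb, htb, htbH⟩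
        have := isE_mul hf hu (hkv a) (hkv b) hta htb
        exact ⟨_, ta * tb, isE_congr this (by module) rfl, H.mul_mem htaH htbH⟩
      neg_mem' := by
        rintro a ⟨γa, ta, hta, htaH⟩
        have := isE_inv hf hu (hkv a) hta
        exact ⟨_, ta⁻¹, isE_congr this (by module) rfl, H.inv_mem htaH⟩ }
  have hS : ∀ s ∈ S, σ lam * mu * s ∈ S := by
    rintro s ⟨γs, ts, hts, htsH⟩
    exact ⟨_, h * ts * h⁻¹, isE_conj_diag hf (hHiso h hhH) hhu hhv hts,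
      H.mul_mem (H.mul_mem hhH htsH) (H.inv_mem hhH)⟩
  intro k
  exact hgen S hS ⟨k₁, h1, hk₁⟩ k

end Cfsg.Agent.Lib.Helper29.UG
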