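import Cfsg.Agent.Lib.Helper29.UG.UFrame

/-!
# Weyl-type and torus elements of a hyperbolic quadruple (unitary case)
-/

set_option autoImplicit false

namespace Cfsg.Agent.Lib.Helper29.UG

open Matrix Cfsg.Agent.Lib.Helper28.UForm Cfsg.Agent.Lib.Helper28.UGen
  Cfsg.Agent.Lib.Helper28.UMax Cfsg.Agent.Lib.Helper28.UMax2 Cfsg.Agent.Lib.Helper28.UPair

variable {n : ℕ} {F : Type*} [Field F] {σ : F ≃+* F} {f : (Fin n → F) → (Fin n → F) → F}

/-- the group `SU`: isometries of determinant one. -/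
def IsSUGroup (f : (Fin n → F) → (Fin n → F) → F)
    (G : Subgroup (Matrix.GeneralLinearGroup (Fin n) F)) : Prop :=
  ∀ g : Matrix.GeneralLinearGroup (Fin n) F, g ∈ G ↔
    (∀ x y, f ((g : Matrix (Fin n) (Fin n) F) *ᵥ x) ((g : Matrix (Fin n) (Fin n) F) *ᵥ y) = f x y) ∧
      g ∈ Cfsg.Geo.specialLinear (Fin n) F

theorem IsSUGroup.iso {G : Subgroup (Matrix.GeneralLinearGroup (Fin n) F)} (hG : IsSUGroup f G)
    {g : Matrix.GeneralLinearGroup (Fin n) F} (hg : g ∈ G) : Iso f g := ((hG g).1 hg).1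

/-- a hyperbolic quadruple: two orthogonal hyperbolic pairs `(p,p')`, `(r,r')`. -/
structure HQuad (f : (Fin n → F) → (Fin n → F) → F) (p p' r r' : Fin n → F) : Prop where
  pp : f p p = 0
  p'p' : f p' p' = 0
  rr : f r r = 0
  r'r' : f r' r' = 0
  pp' : f p p' = 1
  rr' : f r r' = 1
  pr : f p r = 0
  pr' : f p r' = 0
  p'r : f p' r = 0
  p'r' : f p' r' = 0

theorem eq_of_sub_eq_smul {x y p : Fin n → F} {k : F} (hk : k = 0) (h : x - y = k • p) :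
    x = y := by
  rw [hk, zero_smul] at h
  exact sub_eq_zero.mp h

/-- the Weyl-type element `w(t) = x(t) y(s) x(t)`, `s σ(t) = 1`, of a hyperbolic quadruple. -/
theorem W_exists (hf : Cfsg.Geo.IsUnitaryForm σ f)
    {G : Subgroup (Matrix.GeneralLinearGroup (Fin n) F)} (hG : IsSUGroup f G)
    {p p' r r' : Fin n → F} (hD : HQuad f p p' r r') (t s : F) (hst : s * σ t = 1) :
    ∃ g ∈ G, (g : Matrix (Fin n) (Fin n) F) *ᵥ p = s • r' ∧
      (g : Matrix (Fin n) (Fin n) F) *ᵥ r' = (-σ t) • p ∧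
      (g : Matrix (Fin n) (Fin n) F) *ᵥ r = (-σ s) • p' ∧
      (g : Matrix (Fin n) (Fin n) F) *ᵥ p' = t • r ∧
      ∀ z, f z p = 0 → f z p' = 0 → f z r = 0 → f z r' = 0 →
        (g : Matrix (Fin n) (Fin n) F) *ᵥ z = z := by
  have hp'p : f p' p = 1 := by rw [hf.herm, hD.pp', map_one]
  have hr'r : f r' r = 1 := by rw [hf.herm, hD.rr', map_one]
  have hrp : f r p = 0 := f_swap_zero hf hD.pr
  have hr'p : f r' p = 0 := f_swap_zero hf hD.pr'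
  have hrp' : f r p' = 0 := f_swap_zero hf hD.p'r
  have hr'p' : f r' p' = 0 := f_swap_zero hf hD.p'r'
  obtain ⟨x₁, hxS, hxiso, hx⟩ := sr_ex hf p r hD.pp hD.rr hrp t
  obtain ⟨y₁, hyS, hyiso, hy⟩ := sr_ex hf p' r' hD.p'p' hD.r'r' hr'p' s
  have hxG : x₁ ∈ G := (hG x₁).2 ⟨hxiso, hxS⟩
  have hyG : y₁ ∈ G := (hG y₁).2 ⟨hyiso, hyS⟩
  have xp : (x₁ : Matrix (Fin n) (Fin n) F) *ᵥ p = p := by
    rw [hx p]; unfold srAct; rw [hD.pp, hD.pr]; module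
  have xr : (x₁ : Matrix (Fin n) (Fin n) F) *ᵥ r = r := by
    rw [hx r]; unfold srAct; rw [hrp, hD.rr]; module
  have xp' : (x₁ : Matrix (Fin n) (Fin n) F) *ᵥ p' = p' + t • r := by
    rw [hx p']; unfold srAct; rw [hp'p, hD.p'r]; module
  have xr' : (x₁ : Matrix (Fin n) (Fin n) F) *ᵥ r' = r' - σ t • p := by
    rw [hx r']; unfold srAct; rw [hr'p, hr'r]; module
  have yp : (y₁ : Matrix (Fin n) (Fin n) F) *ᵥ p = p + s • r' := by
    rw [hy p]; unfold srAct; rw [hD.pp', hD.pr']; module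
  have yr : (y₁ : Matrix (Fin n) (Fin n) F) *ᵥ r = r - σ s • p' := by
    rw [hy r]; unfold srAct; rw [hrp', hD.rr']; module
  have yp' : (y₁ : Matrix (Fin n) (Fin n) F) *ᵥ p' = p' := by
    rw [hy p']; unfold srAct; rw [hD.p'p', hD.p'r']; module
  have yr' : (y₁ : Matrix (Fin n) (Fin n) F) *ᵥ r' = r' := by
    rw [hy r']; unfold srAct; rw [hr'p', hD.r'r']; module
  have hk : 1 - s * σ t = 0 := by rw [hst, sub_self]
  have hk' : 1 - σ s * t = 0 := by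
    have : σ s * t = σ (s * σ t) := by rw [map_mul, hf.involutive]
    rw [this, hst, map_one, sub_self]
  refine ⟨x₁ * y₁ * x₁, G.mul_mem (G.mul_mem hxG hyG) hxG, ?_, ?_, ?_, ?_, ?_⟩
  · rw [Cfsg.Agent.S5643.mul_mv, Cfsg.Agent.S5643.mul_mv, xp, yp, Matrix.mulVec_add,
      Matrix.mulVec_smul, xp, xr']
    apply eq_of_sub_eq_smul (p := p) hk
    module
  · rw [Cfsg.Agent.S5643.mul_mv, Cfsg.Agent.S5643.mul_mv, xr', Matrix.mulVec_sub,
      Matrix.mulVec_smul, yr', yp, Matrix.mulVec_sub, Matrix.mulVec_smul, Matrix.mulVec_add,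
      Matrix.mulVec_smul, xr', xp]
    apply eq_of_sub_eq_smul (p := r' - σ t • p) hk
    module
  · rw [Cfsg.Agent.S5643.mul_mv, Cfsg.Agent.S5643.mul_mv, xr, yr, Matrix.mulVec_sub,
      Matrix.mulVec_smul, xr, xp']
    apply eq_of_sub_eq_smul (p := r) hk'
    module
  · rw [Cfsg.Agent.S5643.mul_mv, Cfsg.Agent.S5643.mul_mv, xp', Matrix.mulVec_add,
      Matrix.mulVec_smul, yp', yr, Matrix.mulVec_add, Matrix.mulVec_smul, Matrix.mulVec_sub,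
      Matrix.mulVec_smul, xp', xr]
    apply eq_of_sub_eq_smul (p := p' + t • r) hk'
    module
  · intro z h1 h2 h3 h4
    have xz : (x₁ : Matrix (Fin n) (Fin n) F) *ᵥ z = z := by
      rw [hx z]; unfold srAct; rw [h1, h3]; module
    have yz : (y₁ : Matrix (Fin n) (Fin n) F) *ᵥ z = z := by
      rw [hy z]; unfold srAct; rw [h2, h4]; module
    rw [Cfsg.Agent.S5643.mul_mv, Cfsg.Agent.S5643.mul_mv, xz, yz, xz]

/-- the torus element `h(κ) = w(κ) w(-1)` of a hyperbolic quadruple. -/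
theorem H_exists (hf : Cfsg.Geo.IsUnitaryForm σ f)
    {G : Subgroup (Matrix.GeneralLinearGroup (Fin n) F)} (hG : IsSUGroup f G)
    {p p' r r' : Fin n → F} (hD : HQuad f p p' r r') (κ : F) (hκ : κ ≠ 0) :
    ∃ g ∈ G, (g : Matrix (Fin n) (Fin n) F) *ᵥ p = σ κ • p ∧
      (g : Matrix (Fin n) (Fin n) F) *ᵥ r = κ • r ∧
      (g : Matrix (Fin n) (Fin n) F) *ᵥ p' = κ⁻¹ • p' ∧
      (g : Matrix (Fin n) (Fin n) F) *ᵥ r' = (σ κ)⁻¹ • r' ∧
      ∀ z, f z p = 0 → f z p' = 0 → f z r = 0 → f z r' = 0 →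
        (g : Matrix (Fin n) (Fin n) F) *ᵥ z = z := by
  have hσκ : σ κ ≠ 0 := fun h => hκ ((map_eq_zero σ).1 h)
  obtain ⟨g₁, hg₁, a1, a2, a3, a4, a5⟩ := W_exists hf hG hD κ (σ κ)⁻¹ (inv_mul_cancel₀ hσκ)
  obtain ⟨g₂, hg₂, b1, b2, b3, b4, b5⟩ := W_exists hf hG hD (-1) (-1) (by
    rw [map_neg, map_one]; ring)
  have e1 : σ ((σ κ)⁻¹) = κ⁻¹ := by rw [map_inv₀, hf.involutive]
  refine ⟨g₁ * g₂, G.mul_mem hg₁ hg₂, ?_, ?_, ?_, ?_, ?_⟩
  · rw [Cfsg.Agent.S5643.mul_mv, b1, Matrix.mulVec_smul, a2]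
    module
  · rw [Cfsg.Agent.S5643.mul_mv, b3, Matrix.mulVec_smul, a4, map_neg, map_one]
    module
  · rw [Cfsg.Agent.S5643.mul_mv, b4, Matrix.mulVec_smul, a3, e1]
    module
  · rw [Cfsg.Agent.S5643.mul_mv, b2, Matrix.mulVec_smul, a1, map_neg, map_one]
    module
  · intro z h1 h2 h3 h4
    rw [Cfsg.Agent.S5643.mul_mv, b5 z h1 h2 h3 h4, a5 z h1 h2 h3 h4]

/-- the long-root Weyl element of a hyperbolic pair. -/
theorem Nlong_exists (hf : Cfsg.Geo.IsUnitaryForm σ f)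
    {G : Subgroup (Matrix.GeneralLinearGroup (Fin n) F)} (hG : IsSUGroup f G)
    {b c : Fin n → F} (hbb : f b b = 0) (hcc : f c c = 0) (hbc : f b c = 1) :
    ∃ c₀ : F, c₀ ≠ 0 ∧ ∃ g ∈ G, (g : Matrix (Fin n) (Fin n) F) *ᵥ b = c₀ • c ∧
      (g : Matrix (Fin n) (Fin n) F) *ᵥ c = (-c₀⁻¹) • b ∧
      ∀ z, f z b = 0 → f z c = 0 → (g : Matrix (Fin n) (Fin n) F) *ᵥ z = z := by
  obtain ⟨c₀, hc₀, hc₀'⟩ := exists_K0 hf
  have hcb : f c b = 1 := by rw [hf.herm, hbc, map_one]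
  obtain ⟨w, hwS, hwiso, hw⟩ := weyl hf c₀ hc₀ hc₀' b c hbb hcc hbc
  refine ⟨c₀, hc₀, w, (hG w).2 ⟨hwiso, hwS⟩, ?_, ?_, ?_⟩
  · rw [hw, hbc, hbb]; module
  · rw [hw, hcc, hcb]; module
  · intro z h1 h2
    rw [hw, h1, h2]; module

end Cfsg.Agent.Lib.Helper29.UG
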